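import Cfsg.Agent.Lib.Perm.Modules
import Cfsg.Agent.Lib.SixInv.Basic
import Cfsg.Agent.Lib.Transfer.Basic

/-!
# A Sylow subgroup of a normal subgroup on an orbit of 2-power length
-/

set_option autoImplicit false
set_option linter.style.haveILetI false
set_option linter.unusedSectionVars false

namespace Cfsg.Agent.GoodInvol

open Subgroup MulAction

universe u

variable {G : Type u} [Group G] [Finite G]

/-- A Sylow subgroup of `N` meets a normal subgroup `C` in a group transitive on each 2-power orbit of `N ∩ C`. -/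
theorem exists_conj_of_sylow {N C : Subgroup G} (S : Sylow 2 N)
    (hC : ∀ g ∈ N, ∀ x ∈ C, g * x * g⁻¹ ∈ C) {y : G} {A : Set G}
    (hA : SixInv.orb (N ⊓ C) y = A) {r : ℕ} (hr : A.ncard = 2 ^ r) {z : G} (hz : z ∈ A) :
    ∃ s ∈ (S : Subgroup N).map N.subtype ⊓ C, s * y * s⁻¹ = z := by
  classical
  haveI : Fact (Nat.Prime 2) := ⟨Nat.prime_two⟩
  set C0 := C.subgroupOf N with hC0
  haveI : C0.Normal := ⟨fun x hx g => hC g g.2 x hx⟩
  obtain ⟨P, hP⟩ := PBasic.exists_sylow_subgroupOf S C0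
  letI : MulAction C0 G := MulAction.compHom G ((MulAut.conj : G →* MulAut G).comp (N.subtype.comp C0.subtype))
  have hs : ∀ (g : C0) (x : G), g • x = ((g : N) : G) * x * ((g : N) : G)⁻¹ := fun _ _ => rfl
  have horb : MulAction.orbit C0 y = A := by
    rw [← hA]
    ext v
    constructor
    · rintro ⟨g, rfl⟩
      exact ⟨((g : N) : G), ⟨(g : N).2, g.2⟩, (hs g y).symm⟩
    · rintro ⟨g, ⟨hgN, hgC⟩, rfl⟩
      exact ⟨⟨⟨g, hgN⟩, hgC⟩, rfl⟩
  letI : Fintype (MulAction.orbit C0 y) := Fintype.ofFinite _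
  have hcard : Fintype.card (MulAction.orbit C0 y) = 2 ^ r := by
    rw [← Nat.card_eq_fintype_card, Nat.card_coe_set_eq, horb, hr]
  obtain ⟨g, hg, hgy⟩ := PermModules.sylow_transitive (Ω := MulAction.orbit C0 y) hcard P
    ⟨y, MulAction.mem_orbit_self y⟩ ⟨z, horb ▸ hz⟩
  have hgS : (g : N) ∈ (S : Subgroup N) := by
    rw [hP] at hg
    exact hg
  exact ⟨((g : N) : G), ⟨⟨g, hgS, rfl⟩, g.2⟩, (hs g y).symm.trans (congrArg Subtype.val hgy)⟩

end Cfsg.Agent.GoodInvol
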