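import Cfsg.Agent.Lib.GoodInvol.LemmaT.CosetTrans

/-!
# Translations of an affine action on an elementary abelian subgroup

`H` normalises the elementary subgroup `E` and acts on it by `x ↦ c g * g x g⁻¹` transitively; a subgroup `K`
with `c = 1` is transitive on `E - 1` by commuting maps and is normalised, on `E`, by the elements with `c = 1`.
By Lemma T every translation is induced by an element centralising `E`, or `E` has eight elements.
-/

set_option autoImplicit false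
set_option linter.style.haveILetI false
set_option linter.unusedSectionVars false

namespace Cfsg.Agent.GoodInvol

open Subgroup Equiv

universe u

variable {G : Type u} [Group G] [Finite G]

/-- The translations come from the centraliser of `E` in `H`. -/
theorem affine_translations {E H K : Subgroup G} (hsq : ∀ e ∈ E, e * e = 1)
    (hcom : ∀ e ∈ E, ∀ f ∈ E, e * f = f * e) (hne : ∃ e ∈ E, e ≠ 1)
    (hH : ∀ g ∈ H, ∀ x ∈ E, g * x * g⁻¹ ∈ E) (c : G → G) (hcE : ∀ g ∈ H, c g ∈ E)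
    (hc : ∀ g ∈ H, ∀ k ∈ H, c (g * k) = c g * (g * c k * g⁻¹))
    (htr : ∀ e ∈ E, ∃ g ∈ H, c g = e)
    (hKH : K ≤ H) (hKc : ∀ k ∈ K, c k = 1)
    (hKtr : ∀ e ∈ E, ∀ f ∈ E, e ≠ 1 → f ≠ 1 → ∃ k ∈ K, k * e * k⁻¹ = f)
    (hKab : ∀ k ∈ K, ∀ l ∈ K, ∀ e ∈ E, k * (l * e * l⁻¹) * k⁻¹ = l * (k * e * k⁻¹) * l⁻¹)
    (hnorm : ∀ g ∈ H, c g = 1 → ∀ k ∈ K,
      ∃ k' ∈ K, ∀ e ∈ E, g * (k * e * k⁻¹) * g⁻¹ = k' * (g * e * g⁻¹) * k'⁻¹) :
    (∀ e ∈ E, ∃ g ∈ H, (∀ x ∈ E, g * x * g⁻¹ = x) ∧ c g = e) ∨ Nat.card E = 8 := by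
  classical
  letI : CommGroup E :=
    { (inferInstance : Group E) with mul_comm := fun u v => Subtype.ext (hcom u u.2 v v.2) }
  have hc1 : c 1 = 1 := by
    have h1 := hc 1 (one_mem H) 1 (one_mem H)
    rw [one_mul, one_mul, inv_one, mul_one] at h1
    exact left_eq_mul.1 h1
  -- the maps induced by `K`
  have hKm : ∀ (k : K) (x : E), (k : G) * x * (k : G)⁻¹ ∈ E := fun k x => hH k (hKH k.2) x x.2
  let ρK : K →* Perm E :=
    { toFun := fun k =>
        { toFun := fun x => ⟨(k : G) * x * (k : G)⁻¹, hKm k x⟩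
          invFun := fun x => ⟨((k⁻¹ : K) : G) * x * ((k⁻¹ : K) : G)⁻¹, hKm k⁻¹ x⟩
          left_inv := fun x => Subtype.ext (by simp [mul_assoc])
          right_inv := fun x => Subtype.ext (by simp [mul_assoc]) }
      map_one' := Equiv.ext fun x => Subtype.ext (by simp)
      map_mul' := fun k l => Equiv.ext fun x => Subtype.ext (by simp [mul_assoc]) }
  let act : ρK.range → Additive E → Additive E := fun k x => Additive.ofMul ((k : Perm E) x.toMul)
  have hact_add : ∀ (k : ρK.range) (x y : Additive E), act k (x + y) = act k x + act k y := by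
    rintro ⟨_, k, rfl⟩ x y
    refine Additive.toMul.injective (Subtype.ext ?_)
    show (k : G) * ((x.toMul : G) * y.toMul) * (k : G)⁻¹ =
      ((k : G) * (x.toMul : G) * (k : G)⁻¹) * ((k : G) * (y.toMul : G) * (k : G)⁻¹)
    group
  have hcommK : ∀ k l : ρK.range, k * l = l * k := by
    rintro ⟨_, k, rfl⟩ ⟨_, l, rfl⟩
    exact Subtype.ext (Equiv.ext fun x => Subtype.ext (hKab k k.2 l l.2 x x.2))
  have hreg : ∀ x y : Additive E, x ≠ 0 → y ≠ 0 → ∃! k, act k x = y := by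
    intro x y hx hy
    have hx' : (x.toMul : G) ≠ 1 := fun e => hx (Additive.toMul.injective (Subtype.ext e))
    have hy' : (y.toMul : G) ≠ 1 := fun e => hy (Additive.toMul.injective (Subtype.ext e))
    obtain ⟨k, hk, hkxy⟩ := hKtr _ x.toMul.2 _ y.toMul.2 hx' hy'
    refine ⟨⟨ρK ⟨k, hk⟩, _, rfl⟩, Additive.toMul.injective (Subtype.ext hkxy), fun l hl => ?_⟩
    refine Subtype.ext (Equiv.ext fun z => ?_)
    by_cases hz : z = 1
    · rw [hz]
      obtain ⟨_, l, rfl⟩ := l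
      exact Subtype.ext (by
        show (l : G) * 1 * (l : G)⁻¹ = k * 1 * k⁻¹
        group)
    obtain ⟨m, hm, hmz⟩ := hKtr _ x.toMul.2 _ z.2 hx' (fun e => hz (Subtype.ext e))
    have e1 : (l : Perm E) x.toMul = ρK ⟨k, hk⟩ x.toMul := by
      have h1 : (l : Perm E) x.toMul = y.toMul := congrArg Additive.toMul hl
      rw [h1]
      exact Subtype.ext hkxy.symm
    have hzm : z = ρK ⟨m, hm⟩ x.toMul := Subtype.ext hmz.symm
    have hc := fun j : ρK.range => congrArg (fun p : ρK.range => (p : Perm E) x.toMul) (hcommK j ⟨_, ⟨m, hm⟩, rfl⟩)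
    have h1 := hc l
    have h2 := hc ⟨_, ⟨k, hk⟩, rfl⟩
    simp only [Subgroup.coe_mul, Perm.mul_apply] at h1 h2
    rw [hzm, h1, h2, e1]
  obtain ⟨e₀, he₀, he₀1⟩ := hne
  obtain ⟨F', hF, hFt, hF2, η, gK, hη⟩ := Suzuki2.exists_field act (fun x => rfl) (fun k l x => rfl) hact_add
    (fun x => Additive.toMul.injective (Subtype.ext (hsq _ x.toMul.2))) hcommK hreg
    ⟨Additive.ofMul ⟨e₀, he₀⟩, fun e => he₀1 (congrArg (fun x : Additive E => (x.toMul : G)) e)⟩
  -- a copy of the field in the lowest universe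
  let F : Type := {_i : Fin (Fintype.card F') // True}
  let eF : F ≃ F' := (Equiv.subtypeUnivEquiv fun _ => trivial).trans (Fintype.equivFin F').symm
  letI : Field F := eF.field
  set rF : F ≃+* F' :=
    { eF with
      map_mul' := fun x y => eF.apply_symm_apply _
      map_add' := fun x y => eF.apply_symm_apply _ }
  haveI : CharP F 2 := CharTwo.of_one_ne_zero_of_two_eq_zero one_ne_zero
    (rF.injective (by rw [map_ofNat, map_zero, CharTwo.two_eq_zero]))
  let θ : E ≃ F := (Additive.ofMul.trans η.toEquiv).trans rF.symm.toEquiv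
  have hθ : ∀ x y : E, θ (x * y) = θ x + θ y := fun x y => by
    show rF.symm (η (Additive.ofMul x + Additive.ofMul y)) = _
    rw [map_add, map_add]
    rfl
  have hθ1 : θ 1 = 0 := by
    show rF.symm (η 0) = 0
    rw [map_zero, map_zero]
  have hθ0 : θ.symm 0 = 1 := θ.symm_apply_eq.2 hθ1.symm
  have hθs : ∀ a b : F, θ.symm (a + b) = θ.symm a * θ.symm b := fun a b => θ.injective (by
    rw [θ.apply_symm_apply, hθ, θ.apply_symm_apply, θ.apply_symm_apply])
  -- the action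
  let mv : H → E → E := fun g x => ⟨c g * ((g : G) * x * (g : G)⁻¹), mul_mem (hcE g g.2) (hH g g.2 x x.2)⟩
  have hmv : ∀ (g k : H) x, mv (g * k) x = mv g (mv k x) := fun g k x => Subtype.ext (by
    show c ((g * k : H) : G) * (((g * k : H) : G) * x * ((g * k : H) : G)⁻¹) =
      c g * ((g : G) * (c k * ((k : G) * x * (k : G)⁻¹)) * (g : G)⁻¹)
    rw [Subgroup.coe_mul, hc g g.2 k k.2]
    group)
  have hmv1 : ∀ x, mv 1 x = x := fun x => Subtype.ext (by simp [mv, hc1])
  let π : H →* Perm F :=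
    { toFun := fun g =>
        { toFun := fun a => θ (mv g (θ.symm a))
          invFun := fun a => θ (mv g⁻¹ (θ.symm a))
          left_inv := fun a => by simp only [θ.symm_apply_apply, ← hmv, inv_mul_cancel, hmv1, θ.apply_symm_apply]
          right_inv := fun a => by simp only [θ.symm_apply_apply, ← hmv, mul_inv_cancel, hmv1, θ.apply_symm_apply] }
      map_one' := Equiv.ext fun a => by simp [hmv1]
      map_mul' := fun g k => Equiv.ext fun a => by simp [hmv] }
  have hπ : ∀ g a, π g a = θ (mv g (θ.symm a)) := fun _ _ => rfl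
  have hfix : ∀ g : H, π g 0 = 0 → c g = 1 := fun g h0 => by
    rw [hπ, hθ0] at h0
    have h1 : ((mv g 1 : E) : G) = 1 := congrArg Subtype.val (θ.injective (h0.trans hθ1.symm))
    simpa [mv] using h1
  have hlin : ∀ g : H, c g = 1 → ∀ x : E,
      mv g x = ⟨(g : G) * x * (g : G)⁻¹, hH g g.2 x x.2⟩ := fun g hg x => Subtype.ext (by
    show c g * ((g : G) * x * (g : G)⁻¹) = (g : G) * x * (g : G)⁻¹
    rw [hg, one_mul])
  have hK : ∀ (k : K) (a : F), π ⟨k, hKH k.2⟩ a = rF.symm ((gK ⟨ρK k, k, rfl⟩ : F'ˣ) : F') * a := fun k a => by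
    rw [hπ, hlin _ (hKc k k.2)]
    show rF.symm (η (act ⟨ρK k, k, rfl⟩ (Additive.ofMul (θ.symm a)))) = _
    rw [hη, map_mul]
    congr 1
    exact θ.apply_symm_apply a
  have hcfg : LemmaT.ACfg π.range := by
    refine ⟨?_, fun b => ?_, fun d hd => ?_, ?_⟩
    · rintro _ ⟨g, rfl⟩ x y
      rw [hπ, hπ, hπ, hπ, hθ0, hθs, ← hθ, ← hθ]
      refine congrArg θ (Subtype.ext ?_)
      set X := mv g (θ.symm x) with hX
      set Y := mv g (θ.symm y) with hY
      set Z := mv g 1 with hZ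
      have h1 : ((mv g (θ.symm x * θ.symm y) : E) : G) = X * (Z⁻¹ * Y : E) := by
        simp only [hX, hY, hZ, mv, Subgroup.coe_mul, InvMemClass.coe_inv, OneMemClass.coe_one]
        group
      have hZ2 : Z⁻¹ = Z := inv_eq_of_mul_eq_one_left (Subtype.ext (hsq _ Z.2))
      rw [h1, hZ2, mul_comm Z Y, ← Subgroup.coe_mul, ← mul_assoc]
    · obtain ⟨g, hg, hge⟩ := htr _ (θ.symm b).2
      refine ⟨π ⟨g, hg⟩, ⟨_, rfl⟩, ?_⟩
      rw [hπ, hθ0, ← θ.eq_symm_apply]
      exact Subtype.ext (by show c g * (g * 1 * g⁻¹) = _; rw [mul_one, mul_inv_cancel, mul_one, hge])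
    · obtain ⟨⟨_, k, rfl⟩, hk⟩ := gK.surjective (Units.mk0 (rF d) ((map_ne_zero rF).2 hd))
      exact ⟨π ⟨k, hKH k.2⟩, ⟨_, rfl⟩, fun x => by rw [hK, hk, Units.val_mk0, rF.symm_apply_apply]⟩
    · rintro _ ⟨g, rfl⟩ h0 d
      have hgc := hfix g h0
      rcases eq_or_ne d 0 with rfl | hd
      · exact ⟨0, fun x => by rw [zero_mul, zero_mul, h0]⟩
      obtain ⟨⟨_, k, rfl⟩, hk⟩ := gK.surjective (Units.mk0 (rF d) ((map_ne_zero rF).2 hd))
      obtain ⟨k', hk', hkk⟩ := hnorm g g.2 hgc k k.2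
      refine ⟨rF.symm ((gK ⟨ρK ⟨k', hk'⟩, _, rfl⟩ : F'ˣ) : F'), fun x => ?_⟩
      have hdx : d * x = π ⟨k, hKH k.2⟩ x := by rw [hK, hk, Units.val_mk0, rF.symm_apply_apply]
      rw [hdx, ← hK, hπ, hπ, hπ, hπ, θ.symm_apply_apply, θ.symm_apply_apply]
      refine congrArg θ ?_
      rw [hlin ⟨(k : G), hKH k.2⟩ (hKc k k.2), hlin g hgc, hlin g hgc, hlin ⟨k', hKH hk'⟩ (hKc k' hk')]
      exact Subtype.ext (hkk _ (θ.symm x).2)
  rcases LemmaT.lemmaT hcfg with hall | ⟨h8, -⟩
  · refine Or.inl fun e he => ?_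
    obtain ⟨_, ⟨g, rfl⟩, hg⟩ := hall (θ ⟨e, he⟩)
    have hval : ∀ x : E, ((mv g x : E) : G) = x * e := fun x => by
      have := hg (θ x)
      rw [hπ, θ.symm_apply_apply, ← hθ] at this
      exact congrArg Subtype.val (θ.injective this)
    have h1 : c g = e := by simpa [mv] using hval 1
    refine ⟨g, g.2, fun x hx => ?_, h1⟩
    have h2 : e * ((g : G) * x * (g : G)⁻¹) = x * e := by
      rw [← hval ⟨x, hx⟩]
      show _ = c g * ((g : G) * x * (g : G)⁻¹)
      rw [h1]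
    rw [hcom x hx e he] at h2
    exact mul_left_cancel h2
  · exact Or.inr (by rw [Nat.card_congr θ]; exact h8)

end Cfsg.Agent.GoodInvol
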