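import Cfsg.Agent.Lib.GoodInvol.LemmaT.Torus
import Cfsg.Agent.Lib.GoodInvol.Layers

/-!
# An involution whose fixed points form a projective line: basic facts

`LineCfg D Ω w a T E` is the situation of Case B, type L2: `w` fixes `|E| + 1` points, the pointwise part of the
Sylow subgroup `T` at `a` is `⟨w⟩`, and no other involution commuting with `w` fixes `a` and a second point fixed
by `w`.  `E` is regular on the other points, and an element of the centraliser centralising `E` acts as an element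
of `E`.
-/

set_option autoImplicit false
set_option linter.style.haveILetI false
set_option linter.unusedSectionVars false

namespace Cfsg.Agent.GoodInvol

open Subgroup MulAction

universe u

variable {G : Type u} [Group G] {Ω : Type u} [MulAction G Ω] {D : Set G}

/-- The situation. -/
structure LineCfg (D : Set G) (w : G) (a : Ω) (T : Sylow 2 (ptC w a)) (E : Subgroup G) : Prop where
  hw : orderOf w = 2
  hbad : ¬ OneFix Ω w
  ha : w • a = a
  hE : ESet D w a ((T : Subgroup (ptC w a)).map (ptC w a).subtype) E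
  hf : (fixSet Ω w).ncard = Nat.card E + 1
  hW : ∀ g ∈ wker Ω w ((T : Subgroup (ptC w a)).map (ptC w a).subtype), g = 1 ∨ g = w
  hcomp : ∀ v : G, orderOf v = 2 → Commute v w → v • a = a →
    (∃ x, x ≠ a ∧ w • x = x ∧ v • x = x) → v = w

variable [Finite G] [Finite Ω] [FaithfulSMul G Ω]

namespace LineCfg

/-- The Sylow subgroup in the whole group. -/
abbrev tt {w : G} {a : Ω} (T : Sylow 2 (ptC w a)) : Subgroup G :=
  (T : Subgroup (ptC w a)).map (ptC w a).subtype

variable {w : G} {a : Ω} {T : Sylow 2 (ptC w a)} {E : Subgroup G}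

theorem tt_le : tt T ≤ ptC w a := map_subtype_le _

theorem tt_two : IsPGroup 2 (tt T) := T.2.map _

variable (L : LineCfg D w a T E)
include L

theorem eset_ptC {e : G} (he : e ∈ E) : e ∈ ptC w a := tt_le (L.hE.le he)

theorem eset_commute {e : G} (he : e ∈ E) : Commute e w := (mem_ptC.1 (L.eset_ptC he)).1

theorem eset_fix {e : G} (he : e ∈ E) : e • a = a := (mem_ptC.1 (L.eset_ptC he)).2

theorem eset_inv {e : G} (he : e ∈ E) : e⁻¹ = e := inv_eq_of_mul_eq_one_left (L.hE.sq e he)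

theorem card_pow : ∃ r : ℕ, Nat.card E = 2 ^ r ∧ 2 ≤ r := by
  haveI : Fact (Nat.Prime 2) := ⟨Nat.prime_two⟩
  obtain ⟨r, hr⟩ := IsPGroup.iff_card.1 (fun e : E => ⟨1, Subtype.ext (by
    simpa [pow_two] using L.hE.sq _ e.2)⟩ : IsPGroup 2 E)
  refine ⟨r, hr, ?_⟩
  obtain ⟨e, he, f, hf, he1, hf1, hef⟩ := L.hE.two
  have h3 : 2 < Nat.card E := by
    have hs : ({1, e, f} : Set G) ⊆ E := by
      rintro z (rfl | rfl | rfl)
      exacts [one_mem E, he, hf]
    have := Set.ncard_le_ncard hs (Set.toFinite _)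
    rw [Set.ncard_eq_three.2 ⟨1, e, f, Ne.symm he1, Ne.symm hf1, hef, rfl⟩, ← Nat.card_coe_set_eq] at this
    exact this
  by_contra hr2
  have := Nat.pow_le_pow_right two_pos (show r ≤ 1 by omega)
  omega

/-- A member of `E` fixing a second point fixed by `w` is one. -/
theorem free (h : Crit D Ω) {e : G} (he : e ∈ E) {z : Ω} (hza : z ≠ a) (hez : e • z = z) : e = 1 := by
  rcases (L.hE.mem e).1 he with h1 | ⟨heD, -⟩
  · exact h1
  · exact absurd (h.unique e heD z a hez (L.eset_fix he)) hza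

theorem smul_fix {g : G} (hg : Commute g w) {z : Ω} (hz : w • z = z) : w • g • z = g • z := by
  rw [← mul_smul, ← hg.eq, mul_smul, hz]

/-- `E` is regular on the fixed points other than `a`. -/
theorem reg (h : Crit D Ω) {z z' : Ω} (hz : w • z = z) (hza : z ≠ a) (hz' : w • z' = z') (hz'a : z' ≠ a) :
    ∃ e ∈ E, e • z = z' := by
  have hsub : (fun e : G => e • z) '' (E : Set G) ⊆ fixSet Ω w \ {a} := by
    rintro _ ⟨e, he, rfl⟩
    exact ⟨L.smul_fix (L.eset_commute he) hz,
      fun e1 => hza (MulAction.injective e ((e1 : e • z = a).trans (L.eset_fix he).symm))⟩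
  have hinj : Set.InjOn (fun e : G => e • z) (E : Set G) := fun e he f hf e1 => by
    have h1 : (f⁻¹ * e) • z = z := by rw [mul_smul, show e • z = f • z from e1, inv_smul_smul]
    exact (inv_mul_eq_one.1 (L.free h (mul_mem (inv_mem hf) he) hza h1)).symm
  have heq := Set.eq_of_subset_of_ncard_le hsub (by
    rw [hinj.ncard_image, Set.ncard_sdiff_singleton_of_mem (show a ∈ fixSet Ω w from L.ha), L.hf,
      Nat.add_sub_cancel]
    exact le_of_eq (Nat.card_coe_set_eq (E : Set G))) (Set.toFinite _)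
  have hm : z' ∈ fixSet Ω w \ {a} := ⟨hz', hz'a⟩
  rw [← heq] at hm
  exact hm

theorem exists_second : ∃ x : Ω, w • x = x ∧ x ≠ a := by
  have hb := L.hbad
  unfold OneFix at hb
  push Not at hb
  obtain ⟨p, q, hp, hq, hpq⟩ := hb
  by_cases hpa : p = a
  · exact ⟨q, hq, fun e => hpq (hpa.trans e.symm)⟩
  · exact ⟨p, hp, hpa⟩

/-- An element commuting with `w` and normalising `E` fixes `a`. -/
theorem fix_a (h : Crit D Ω) {g : G} (hg : Commute g w) (hgE : ∀ e ∈ E, g * e * g⁻¹ ∈ E) : g • a = a := by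
  by_contra hne
  obtain ⟨e, he, -, -, he1, -, -⟩ := L.hE.two
  have h1 : (g * e * g⁻¹) • g • a = g • a := by rw [mul_smul, mul_smul, inv_smul_smul, L.eset_fix he]
  exact he1 (conj_eq_one_iff.1 (L.free h (hgE e he) hne h1))

/-- An element at `a` centralising `E` acts as an element of `E`. -/
theorem cent_act (h : Crit D Ω) {g : G} (hg : Commute g w) (hga : g • a = a) (hgE : ∀ e ∈ E, Commute g e) :
    ∃ e ∈ E, ∀ z : Ω, w • z = z → g • z = e • z := by
  obtain ⟨x, hx, hxa⟩ := L.exists_second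
  obtain ⟨e, he, hex⟩ := L.reg h hx hxa (L.smul_fix hg hx)
    fun e => hxa (MulAction.injective g (e.trans hga.symm))
  refine ⟨e, he, fun z hz => ?_⟩
  by_cases hza : z = a
  · rw [hza, hga, L.eset_fix he]
  obtain ⟨f, hf, rfl⟩ := L.reg h hx hxa hz hza
  rw [← mul_smul, (hgE f hf).eq, mul_smul, ← hex, ← mul_smul, ← mul_smul, (L.hE.comm f hf e he).eq]

theorem w_mem : w ∈ tt T := by
  haveI : Fact (Nat.Prime 2) := ⟨Nat.prime_two⟩
  have hwX : w ∈ ptC w a := mem_ptC.2 ⟨Commute.refl w, L.ha⟩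
  set w0 : ptC w a := ⟨w, hwX⟩
  have hcen : w0 ∈ center (ptC w a) := mem_center_iff.2 fun g => Subtype.ext (mem_ptC.1 g.2).1.eq
  haveI : (zpowers w0).Normal := ⟨fun n hn g => by
    obtain ⟨i, rfl⟩ := mem_zpowers_iff.1 hn
    rw [(mem_center_iff.1 (zpow_mem hcen i) g), mul_inv_cancel_right]
    exact zpow_mem (mem_zpowers w0) i⟩
  have hP : IsPGroup 2 (zpowers w0) := IsPGroup.of_card (n := 1) (by
    rw [Nat.card_zpowers, ← Subgroup.orderOf_coe, pow_one]; exact L.hw)
  exact ⟨w0, IsPGroup.le_sylow_of_normal hP T (mem_zpowers w0), rfl⟩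

/-- A 2-element at `a` fixing every point fixed by `w` is one or `w`. -/
theorem ker_two {g : G} (hg : Commute g w) (hga : g • a = a) (h2 : ∃ n : ℕ, orderOf g = 2 ^ n)
    (hfix : ∀ z : Ω, w • z = z → g • z = z) : g = 1 ∨ g = w := by
  haveI : Fact (Nat.Prime 2) := ⟨Nat.prime_two⟩
  set g0 : ptC w a := ⟨g, mem_ptC.2 ⟨hg, hga⟩⟩
  obtain ⟨n, hn⟩ := h2
  have hP : IsPGroup 2 (zpowers g0) := IsPGroup.of_card (n := n) (by
    rw [Nat.card_zpowers, ← Subgroup.orderOf_coe]; exact hn)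
  obtain ⟨T', hT'⟩ := hP.exists_le_sylow
  obtain ⟨c, hc⟩ := MulAction.exists_smul_eq (ptC w a) T' T
  have hm : c * g0 * c⁻¹ ∈ (T : Subgroup (ptC w a)) := by
    rw [← hc, Sylow.coe_subgroup_smul]
    exact ⟨g0, hT' (mem_zpowers g0), rfl⟩
  have hcw := (mem_ptC.1 c.2).1
  rcases L.hW ((c : G) * g * (c : G)⁻¹) ⟨⟨_, hm, rfl⟩, fun z hz => by
    rw [mul_smul, mul_smul, hfix _ (L.smul_fix hcw.inv_left hz), smul_inv_smul]⟩ with h1 | h1
  · exact Or.inl (conj_eq_one_iff.1 h1)
  · refine Or.inr ?_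
    calc g = (c : G)⁻¹ * ((c : G) * g * (c : G)⁻¹) * c := by group
      _ = w := by rw [h1, mul_assoc, hcw.symm.eq, inv_mul_cancel_left]

/-- No element fixing the fixed points of `w` squares to `w`. -/
theorem not_sq {g : G} (hg : Commute g w) (hga : g • a = a) (hfix : ∀ z : Ω, w • z = z → g • z = z) :
    g * g ≠ w := fun e => by
  have h4 : g ^ 2 ^ 2 = 1 := by
    rw [show (2 : ℕ) ^ 2 = 2 * 2 by norm_num, pow_mul, pow_two g, e, pow_two, Invol.mul_self L.hw]
  obtain ⟨i, -, hi⟩ := (Nat.dvd_prime_pow Nat.prime_two).1 (orderOf_dvd_of_pow_eq_one h4)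
  have hw1 := Invol.ne_one L.hw
  rcases L.ker_two hg hga ⟨i, hi⟩ hfix with rfl | rfl
  · rw [one_mul] at e; exact hw1 e.symm
  · rw [Invol.mul_self L.hw] at e; exact hw1 e.symm

/-- The part of `T` centralising `E` is `⟨w⟩ E`. -/
theorem tt_cent (h : Crit D Ω) {g : G} (hg : g ∈ tt T) (hgE : ∀ e ∈ E, Commute g e) :
    g ∈ E ∨ w * g ∈ E := by
  obtain ⟨hgw, hga⟩ := mem_ptC.1 (tt_le hg)
  obtain ⟨e, he, hact⟩ := L.cent_act h hgw hga hgE
  rcases L.hW (e⁻¹ * g) ⟨(tt T).mul_mem ((tt T).inv_mem (L.hE.le he)) hg, fun z hz => by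
    rw [mul_smul, hact z hz, inv_smul_smul]⟩ with h1 | h1
  · exact Or.inl (inv_mul_eq_one.1 h1 ▸ he)
  · refine Or.inr ?_
    rw [inv_mul_eq_iff_eq_mul.1 h1, ← mul_assoc, ← (L.eset_commute he).eq, mul_assoc, Invol.mul_self L.hw,
      mul_one]
    exact he

/-- An involution commuting with `w` and fixing two points fixed by `w` is `w`. -/
theorem comp_pair (h : Crit D Ω) {v : G} (hv : orderOf v = 2) (hvw : Commute v w) {p p' : Ω} (hp : w • p = p)
    (hp' : w • p' = p') (hne : p ≠ p') (hvp : v • p = p) (hvp' : v • p' = p') : v = w := by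
  obtain ⟨c, hcw, hca⟩ := h.exists_smul_fix L.hw hp L.ha
  have h1 := L.hcomp (c * v * c⁻¹) (by rw [Invol.order_conj, hv])
    ((hcw.mul_left hvw).mul_left hcw.inv_left)
    (by rw [mul_smul, mul_smul, ← hca, inv_smul_smul, hvp])
    ⟨c • p', fun e => hne (MulAction.injective c (hca.trans e.symm)), L.smul_fix hcw hp',
      by rw [mul_smul, mul_smul, inv_smul_smul, hvp']⟩
  calc v = c⁻¹ * (c * v * c⁻¹) * c := by group
    _ = w := by rw [h1, mul_assoc, hcw.symm.eq, inv_mul_cancel_left]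

end LineCfg

end Cfsg.Agent.GoodInvol
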