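import Cfsg.Agent.Lib.GoodInvol.CaseBL2.Basic

/-!
# Coordinates of `E` from its torus

`E` is identified with a field in which one element `k` of the centraliser induces a generator of the scalars
and every element of the centraliser normalising `E` is semilinear.
-/

set_option autoImplicit false
set_option linter.style.haveILetI false
set_option linter.unusedSectionVars false

namespace Cfsg.Agent.GoodInvol

open Subgroup MulAction Equiv

universe u

variable {G : Type u} [Group G]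

/-- Field coordinates of `E`. -/
structure LineCoord (w : G) (E : Subgroup G) where
  F : Type
  [fld : Field F]
  [fin : Fintype F]
  [char2 : CharP F 2]
  φ : F ≃ E
  φ_add : ∀ x y, φ (x + y) = φ x * φ y
  k : G
  kw : Commute k w
  kE : ∀ e ∈ E, k * e * k⁻¹ ∈ E
  prim : ∀ c : F, c ≠ 0 → ∃ i : ℕ, ∀ x, k ^ i * (φ x : G) * (k ^ i)⁻¹ = φ (c * x)
  semi : ∀ g : G, Commute g w → (∀ e ∈ E, g * e * g⁻¹ ∈ E) → ∀ c : F, ∃ c2 : F, ∀ x y : F,
    g * (φ x : G) * g⁻¹ = φ y → g * (φ (c * x) : G) * g⁻¹ = φ (c2 * y)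

attribute [instance] LineCoord.fld LineCoord.fin LineCoord.char2

variable [Finite G] {Ω : Type u} [MulAction G Ω] [Finite Ω] [FaithfulSMul G Ω] {D : Set G}

namespace LineCfg

variable {w : G} {a : Ω} {T : Sylow 2 (ptC w a)} {E : Subgroup G} (L : LineCfg D w a T E)
include L

theorem mem_cosetNorm {g : G} (hg : Commute g w) (hgE : ∀ e ∈ E, g * e * g⁻¹ ∈ E) : g ∈ cosetNorm E w := by
  refine mem_cosetNorm_of_conj (fun x => ⟨fun hx => ?_, hgE x⟩) ?_
  · obtain ⟨y, hy⟩ := (Finite.injective_iff_surjective (f := fun e : E => (⟨g * e * g⁻¹, hgE e e.2⟩ : E))).1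
      (fun a b hab => Subtype.ext (mul_left_cancel (mul_right_cancel (congrArg Subtype.val hab)))) ⟨_, hx⟩
    have : (y : G) = x := mul_left_cancel (mul_right_cancel (congrArg Subtype.val hy))
    exact this ▸ y.2
  · rw [hg.eq, mul_inv_cancel_right, inv_mul_cancel]
    exact one_mem E

variable (h : Crit D Ω) (hB : Below.{u} (Nat.card G)) (hgen : closure D = ⊤)
include h hB hgen

theorem exists_coord : Nonempty (LineCoord w E) := by
  classical
  obtain ⟨K, hKN, hKw, hKtr, hKab, hnorm⟩ := h.exists_torus hB hgen L.hw L.hbad L.ha T L.hE L.hf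
  have hN : ∀ g ∈ K, ∀ x ∈ E, g * x * g⁻¹ ∈ E := fun g hg x hx => ((hKN hg).1.1 x).2 hx
  letI : CommGroup E :=
    { (inferInstance : Group E) with mul_comm := fun u v => Subtype.ext (L.hE.comm u u.2 v v.2).eq }
  let ρK : K →* Perm E :=
    { toFun := fun k =>
        { toFun := fun x => ⟨(k : G) * x * (k : G)⁻¹, hN k k.2 x x.2⟩
          invFun := fun x => ⟨((k⁻¹ : K) : G) * x * ((k⁻¹ : K) : G)⁻¹, hN _ (k⁻¹).2 x x.2⟩
          left_inv := fun x => Subtype.ext (by simp [mul_assoc])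
          right_inv := fun x => Subtype.ext (by simp [mul_assoc]) }
      map_one' := Equiv.ext fun x => Subtype.ext (by simp)
      map_mul' := fun k l => Equiv.ext fun x => Subtype.ext (by simp [mul_assoc]) }
  let act : ρK.range → Additive E → Additive E := fun k x => Additive.ofMul ((k : Perm E) x.toMul)
  have hact_add : ∀ (k : ρK.range) (x y : Additive E), act k (x + y) = act k x + act k y := by
    rintro ⟨_, k, rfl⟩ x y
    refine Additive.toMul.injective (Subtype.ext ?_)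
    show (k : G) * ((x.toMul : G) * y.toMul) * (k : G)⁻¹ =
      ((k : G) * (x.toMul : G) * (k : G)⁻¹) * ((k : G) * (y.toMul : G) * (k : G)⁻¹)
    group
  have hcommK : ∀ k l : ρK.range, k * l = l * k := by
    rintro ⟨_, k, rfl⟩ ⟨_, l, rfl⟩
    exact Subtype.ext (Equiv.ext fun x => Subtype.ext (hKab k k.2 l l.2 x x.2))
  have hreg : ∀ x y : Additive E, x ≠ 0 → y ≠ 0 → ∃! k, act k x = y := by
    intro x y hx hy
    have hx' : (x.toMul : G) ≠ 1 := fun e => hx (Additive.toMul.injective (Subtype.ext e))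
    have hy' : (y.toMul : G) ≠ 1 := fun e => hy (Additive.toMul.injective (Subtype.ext e))
    obtain ⟨k, hk, hkxy⟩ := hKtr _ x.toMul.2 _ y.toMul.2 hx' hy'
    refine ⟨⟨ρK ⟨k, hk⟩, _, rfl⟩, Additive.toMul.injective (Subtype.ext hkxy), fun l hl => ?_⟩
    refine Subtype.ext (Equiv.ext fun z => ?_)
    by_cases hz : z = 1
    · rw [hz]
      obtain ⟨_, l, rfl⟩ := l
      exact Subtype.ext (by
        show (l : G) * 1 * (l : G)⁻¹ = k * 1 * k⁻¹
        group)
    obtain ⟨m, hm, hmz⟩ := hKtr _ x.toMul.2 _ z.2 hx' (fun e => hz (Subtype.ext e))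
    have e1 : (l : Perm E) x.toMul = ρK ⟨k, hk⟩ x.toMul := by
      have h1 : (l : Perm E) x.toMul = y.toMul := congrArg Additive.toMul hl
      rw [h1]
      exact Subtype.ext hkxy.symm
    have hzm : z = ρK ⟨m, hm⟩ x.toMul := Subtype.ext hmz.symm
    have hc := fun j : ρK.range => congrArg (fun p : ρK.range => (p : Perm E) x.toMul) (hcommK j ⟨_, ⟨m, hm⟩, rfl⟩)
    have h1 := hc l
    have h2 := hc ⟨_, ⟨k, hk⟩, rfl⟩
    simp only [Subgroup.coe_mul, Perm.mul_apply] at h1 h2
    rw [hzm, h1, h2, e1]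
  obtain ⟨e₀, he₀, -, -, he₀1, -, -⟩ := L.hE.two
  obtain ⟨F', hF, hFt, hF2, η, gK, hη⟩ := Suzuki2.exists_field act (fun x => rfl) (fun k l x => rfl) hact_add
    (fun x => Additive.toMul.injective (Subtype.ext (L.hE.sq _ x.toMul.2))) hcommK hreg
    ⟨Additive.ofMul ⟨e₀, he₀⟩, fun e => he₀1 (congrArg (fun x : Additive E => (x.toMul : G)) e)⟩
  -- a copy of the field in the lowest universe
  let F : Type := {_i : Fin (Fintype.card F') // True}
  let eF : F ≃ F' := (Equiv.subtypeUnivEquiv fun _ => trivial).trans (Fintype.equivFin F').symm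
  letI : Field F := eF.field
  set rF : F ≃+* F' :=
    { eF with
      map_mul' := fun x y => eF.apply_symm_apply _
      map_add' := fun x y => eF.apply_symm_apply _ }
  haveI : CharP F 2 := CharTwo.of_one_ne_zero_of_two_eq_zero one_ne_zero
    (rF.injective (by rw [map_ofNat, map_zero, CharTwo.two_eq_zero]))
  let φ : F ≃ E := (rF.toEquiv.trans η.symm.toEquiv).trans Additive.toMul
  have hφadd : ∀ x y, φ (x + y) = φ x * φ y := fun x y => by
    show Additive.toMul (η.symm (rF (x + y))) = _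
    rw [map_add, map_add]
    rfl
  have hscal : ∀ (l : K) (x : F),
      (l : G) * (φ x : G) * (l : G)⁻¹ = φ (rF.symm ((gK ⟨ρK l, l, rfl⟩ : F'ˣ) : F') * x) := by
    intro l x
    have h1 := hη ⟨ρK l, l, rfl⟩ (η.symm (rF x))
    rw [AddEquiv.apply_symm_apply] at h1
    have h2 : φ (rF.symm ((gK ⟨ρK l, l, rfl⟩ : F'ˣ) : F') * x) =
        ρK l (Additive.toMul (η.symm (rF x))) := by
      show Additive.toMul (η.symm (rF _)) = _
      rw [map_mul, rF.apply_symm_apply, ← h1, AddEquiv.symm_apply_apply]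
      rfl
    rw [h2]
    rfl
  have hsurj : ∀ c : F, c ≠ 0 → ∃ l : K, rF.symm ((gK ⟨ρK l, l, rfl⟩ : F'ˣ) : F') = c := fun c hc => by
    obtain ⟨⟨_, l, rfl⟩, hl⟩ := gK.surjective (Units.mk0 (rF c) ((map_ne_zero rF).2 hc))
    exact ⟨l, by rw [hl, Units.val_mk0, rF.symm_apply_apply]⟩
  obtain ⟨ζ, hζ⟩ := IsCyclic.exists_generator (α := Fˣ)
  obtain ⟨k, hk⟩ := hsurj ζ ζ.ne_zero
  have hkpow : ∀ (i : ℕ) (x : F), (k : G) ^ i * (φ x : G) * ((k : G) ^ i)⁻¹ = φ ((ζ : F) ^ i * x) := by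
    intro i
    induction i with
    | zero => intro x; simp
    | succ i ih =>
      intro x
      rw [pow_succ', mul_inv_rev, show (k : G) * (k : G) ^ i * (φ x : G) * (((k : G) ^ i)⁻¹ * (k : G)⁻¹) =
        k * ((k : G) ^ i * (φ x : G) * ((k : G) ^ i)⁻¹) * (k : G)⁻¹ by group, ih, hscal, hk, ← mul_assoc,
        ← pow_succ']
  refine ⟨{ F := F, φ := φ, φ_add := hφadd, k := k, kw := hKw k k.2, kE := hN k k.2, prim := ?_, semi := ?_ }⟩
  · intro c hc
    obtain ⟨i, hi⟩ := Submonoid.mem_powers_iff _ _ |>.1 ((mem_powers_iff_mem_zpowers).2 (hζ (Units.mk0 c hc)))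
    refine ⟨i, fun x => ?_⟩
    rw [hkpow i x, ← Units.val_pow_eq_pow_val, hi, Units.val_mk0]
  · intro g hg hgE c
    rcases eq_or_ne c 0 with rfl | hc
    · refine ⟨0, fun x y _ => ?_⟩
      have h0 : (φ 0 : G) = 1 := by
        have h1 := congrArg Subtype.val (hφadd 0 0)
        rw [add_zero, Subgroup.coe_mul] at h1
        exact left_eq_mul.1 h1
      rw [zero_mul, zero_mul, h0, mul_one, mul_inv_cancel]
    obtain ⟨l, hl⟩ := hsurj c hc
    obtain ⟨l', hl', hll⟩ := hnorm g ⟨L.mem_cosetNorm hg hgE, L.fix_a h hg hgE⟩ hg.eq l l.2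
    refine ⟨rF.symm ((gK ⟨ρK ⟨l', hl'⟩, ⟨l', hl'⟩, rfl⟩ : F'ˣ) : F'), fun x y hxy => ?_⟩
    rw [← hl, ← hscal, hll _ (φ x).2, hxy]
    exact hscal ⟨l', hl'⟩ y

end LineCfg

end Cfsg.Agent.GoodInvol
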