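import Mathlib.GroupTheory.Transfer
import Mathlib.GroupTheory.Sylow
import Mathlib.Data.ZMod.Basic

/-!
# A transfer to a quotient of order two

If the conjugates of the 2-element `g` in the Sylow subgroup `S` are outside an index two subgroup and those of
its proper 2-power powers are inside, the whole group has a subgroup of index two.
-/

set_option autoImplicit false
set_option linter.style.haveILetI false
set_option linter.unusedSectionVars false

namespace Cfsg.Agent.GoodInvol

open Subgroup MulAction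

universe u

variable {G : Type u} [Group G] [Finite G]

/-- Transfer with one sign. -/
theorem exists_index_two_of_sign (S : Sylow 2 G) (φ : (S : Subgroup G) →* Multiplicative (ZMod 2)) {g : G} {n : ℕ}
    (hg : orderOf g = 2 ^ n)
    (h1 : ∀ (c : G) (hc : c⁻¹ * g * c ∈ (S : Subgroup G)), φ ⟨_, hc⟩ ≠ 1)
    (h2 : ∀ (i : ℕ) (c : G) (hc : c⁻¹ * g ^ 2 ^ (i + 1) * c ∈ (S : Subgroup G)), φ ⟨_, hc⟩ = 1) :
    ∃ H : Subgroup G, H.index = 2 := by
  classical
  haveI : Fact (Nat.Prime 2) := ⟨Nat.prime_two⟩
  letI : Fintype (G ⧸ (S : Subgroup G)) := Fintype.ofFinite _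
  letI : Fintype (Quotient (orbitRel (zpowers g) (G ⧸ (S : Subgroup G)))) := Fintype.ofFinite _
  set τ := MonoidHom.transfer φ with hτ
  let l : Quotient (orbitRel (zpowers g) (G ⧸ (S : Subgroup G))) → ℕ :=
    fun q => Function.minimalPeriod (g • ·) q.out
  have hl : ∀ q, ∃ i, l q = 2 ^ i := fun q => by
    have h : l q ∣ orderOf g := Function.IsPeriodicPt.minimalPeriod_dvd (by
      show (g • ·)^[orderOf g] q.out = q.out
      rw [smul_iterate, pow_orderOf_eq_one]
      exact one_smul G q.out)
    obtain ⟨i, -, hi⟩ := (Nat.dvd_prime_pow Nat.prime_two).1 (hg ▸ h)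
    exact ⟨i, hi⟩
  set m1 : Multiplicative (ZMod 2) := Multiplicative.ofAdd 1 with hm1
  have htwo : ∀ z : Multiplicative (ZMod 2), z ≠ 1 → z = m1 := by decide
  have hval : τ g = m1 ^ (Finset.univ.filter fun q => l q = 1).card := by
    rw [hτ, MonoidHom.transfer_eq_prod_quotient_orbitRel_zpowers_quot, ← Finset.prod_const,
      Finset.prod_filter]
    refine Finset.prod_congr rfl fun q _ => ?_
    by_cases hq : l q = 1
    · rw [if_pos hq]
      have hmem := QuotientGroup.out_conj_pow_minimalPeriod_mem (S : Subgroup G) g q.out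
      have hq' : Function.minimalPeriod (g • ·) q.out = 1 := hq
      simp only [hq', pow_one] at hmem ⊢
      exact htwo _ (h1 _ hmem)
    · rw [if_neg hq]
      obtain ⟨i, hi⟩ := hl q
      rcases i with _ | i
      · exact absurd (hi.trans (pow_zero 2)) hq
      have hmem := QuotientGroup.out_conj_pow_minimalPeriod_mem (S : Subgroup G) g q.out
      have hq' : Function.minimalPeriod (g • ·) q.out = 2 ^ (i + 1) := hi
      simp only [hq'] at hmem ⊢
      exact h2 i _ hmem
  have hodd : Odd (Finset.univ.filter fun q => l q = 1).card := by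
    have hsum : (S : Subgroup G).index = ∑ q, l q := index_eq_sum_minimalPeriod (S : Subgroup G) g
    have hS : (((S : Subgroup G).index : ℕ) : ZMod 2) = 1 := by
      rw [ZMod.natCast_eq_one_iff_odd, Nat.odd_iff]
      exact Nat.two_dvd_ne_zero.1 S.not_dvd_index
    rw [← ZMod.natCast_eq_one_iff_odd, ← hS, hsum, Finset.card_filter, Nat.cast_sum, Nat.cast_sum]
    refine Finset.sum_congr rfl fun q _ => ?_
    by_cases hq : l q = 1
    · rw [if_pos hq, hq]
    · obtain ⟨i, hi⟩ := hl q
      rcases i with _ | i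
      · exact absurd (hi.trans (pow_zero 2)) hq
      rw [if_neg hq, hi, pow_succ, Nat.cast_mul, ZMod.natCast_self, mul_zero, Nat.cast_zero]
  have hg1 : τ g = m1 := by
    obtain ⟨k, hk⟩ := hodd
    rw [hval, hk, pow_succ, pow_mul, show m1 ^ 2 = 1 by decide, one_pow, one_mul]
  refine ⟨τ.ker, ?_⟩
  rw [Subgroup.index_ker, (MonoidHom.range_eq_top (f := τ)).2 ?_, Subgroup.card_top]
  · simp
  intro z
  by_cases hz : z = 1
  · exact ⟨1, by rw [map_one, hz]⟩
  · exact ⟨g, by rw [hg1, htwo z hz]⟩

end Cfsg.Agent.GoodInvol
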