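import Cfsg.Agent.Lib.GoodInvol.CaseBL2.Stab
import Cfsg.Agent.Lib.GoodInvol.IndexTwo
import Cfsg.Agent.Lib.TwoXDih.EFinal

/-!
# No field part: the elementary case

If `T = ⟨w⟩ E` is the Sylow subgroup, the configuration of an involution with centraliser Sylow `⟨w⟩ × E`
excludes the situation.
-/

set_option autoImplicit false
set_option linter.style.haveILetI false
set_option linter.unusedSectionVars false

namespace Cfsg.Agent.GoodInvol

open Subgroup MulAction

universe u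

variable {G : Type u} [Group G] [Finite G] {Ω : Type u} [MulAction G Ω] [Finite Ω] [FaithfulSMul G Ω] {D : Set G}

namespace LineCfg

variable {w : G} {a : Ω} {T : Sylow 2 (ptC w a)} {E : Subgroup G} (L : LineCfg D w a T E)
include L

/-- `T` is a Sylow 2-subgroup of the centraliser. -/
theorem full (h : Crit D Ω) : TwoXDih.Full w (tt T) := by
  haveI : Fact (Nat.Prime 2) := ⟨Nat.prime_two⟩
  refine ⟨fun x hx => (mem_ptC.1 (tt_le hx)).1.eq, tt_two, L.w_mem, fun P hP hc => ?_⟩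
  have hPC : P ≤ centralizer ({w} : Set G) := fun x hx => mem_centralizer_singleton_iff.2 (hc x hx)
  letI : MulAction P (fixSub Ω w) := MulAction.compHom _ (inclusion hPC)
  obtain ⟨p, hp⟩ := hP.nonempty_fixed_point_of_prime_not_dvd_card (fixSub Ω w) fun h2 => by
    have h3 : 2 ∣ (fixSet Ω w).ncard := by
      rw [← Nat.card_coe_set_eq]
      exact h2
    obtain ⟨r, hr, h2r⟩ := L.card_pow
    rw [L.hf, hr] at h3
    have h4 : 2 ∣ 2 ^ r := dvd_pow_self 2 (by omega)
    omega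
  obtain ⟨c, hcw, hca⟩ := h.exists_smul_fix L.hw p.2 L.ha
  set P' : Subgroup G := P.map (MulAut.conj c).toMonoidHom with hP'
  have hle : P' ≤ ptC w a := by
    rintro _ ⟨x, hx, rfl⟩
    refine mem_ptC.2 ⟨(hcw.mul_left (show Commute x w from hc x hx)).mul_left hcw.inv_left, ?_⟩
    show (c * x * c⁻¹) • a = a
    rw [mul_smul, mul_smul, ← hca, inv_smul_smul]
    exact congrArg (c • ·) (congrArg Subtype.val (hp ⟨x, hx⟩))
  obtain ⟨T', hT'⟩ := ((hP.map _).comap_subtype : IsPGroup 2 (P'.subgroupOf (ptC w a))).exists_le_sylow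
  obtain ⟨d, hd⟩ := MulAction.exists_smul_eq (ptC w a) T' T
  refine ⟨d * c, ((mem_ptC.1 d.2).1.mul_left hcw).eq, fun x hx => ?_⟩
  have hm : c * x * c⁻¹ ∈ P' := ⟨x, hx, rfl⟩
  refine ⟨d * ⟨c * x * c⁻¹, hle hm⟩ * d⁻¹, ?_, ?_⟩
  · rw [← hd, Sylow.coe_subgroup_smul]
    exact ⟨_, hT' (show (⟨c * x * c⁻¹, hle hm⟩ : ptC w a) ∈ P'.subgroupOf (ptC w a) from hm), rfl⟩
  · show (d : G) * (c * x * c⁻¹) * (d : G)⁻¹ = (d * c) * x * ((d : G) * c)⁻¹
    group

/-- Without field part there is no such involution. -/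
theorem flat_false (h : Crit D Ω) (hB : Below.{u} (Nat.card G)) (hgen : closure D = ⊤)
    (hT : ∀ t ∈ tt T, t ∈ E ∨ w * t ∈ E) : False := by
  classical
  haveI : Fact (Nat.Prime 2) := ⟨Nat.prime_two⟩
  obtain ⟨Cd⟩ := L.exists_coord h hB hgen
  obtain ⟨x, hx, hxa⟩ := L.exists_second
  have h2 : ∀ H : Subgroup G, H.index ≠ 2 := h.index_ne_two hB hgen L.hw L.ha hx hxa.symm
  have hww := Invol.mul_self L.hw
  have hwE : w ∉ E := fun e => hxa.symm.elim (by
    rcases (L.hE.mem w).1 e with h1 | ⟨hwD, -⟩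
    · exact absurd h1 (Invol.ne_one L.hw)
    · exact h.unique w hwD a x L.ha hx)
  have hkpow : ∀ (i : ℕ), ∀ d ∈ E, Cd.k ^ i * d * (Cd.k ^ i)⁻¹ ∈ E := by
    intro i
    induction i with
    | zero => intro d hd; simpa using hd
    | succ i ih =>
      intro d hd
      rw [pow_succ', show Cd.k * Cd.k ^ i * d * (Cd.k * Cd.k ^ i)⁻¹ = Cd.k * (Cd.k ^ i * d * (Cd.k ^ i)⁻¹) * Cd.k⁻¹
        by group]
      exact Cd.kE _ (ih d hd)
  let C : TwoXDih.ECfg G :=
    { t := w
      D := E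
      T := tt T
      memT := fun z => ⟨hT z, fun hz => hz.elim (fun h1 => L.hE.le h1) fun h1 => by
        have := mul_mem L.w_mem (L.hE.le h1)
        rwa [← mul_assoc, hww, one_mul] at this⟩
      tsq := hww
      tnot := hwE
      sqD := L.hE.sq
      four := by
        obtain ⟨r, hr, h2r⟩ := L.card_pow
        rw [hr]
        calc 4 = 2 ^ 2 := rfl
          _ ≤ 2 ^ r := Nat.pow_le_pow_right two_pos h2r
      commD := fun d hd => (L.eset_commute hd).eq
      full := L.full h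
      k := Cd.k
      kt := Cd.kw.eq
      kD := Cd.kE
      trans := fun d hd e he hd1 he1 => by
        obtain ⟨y, hy⟩ := Cd.φ.surjective ⟨d, hd⟩
        obtain ⟨z, hz⟩ := Cd.φ.surjective ⟨e, he⟩
        have hy0 : y ≠ 0 := fun e0 => hd1 (by
          have := Cd.φ_zero
          rwa [← e0, hy] at this)
        have hz0 : z ≠ 0 := fun e0 => he1 (by
          have := Cd.φ_zero
          rwa [← e0, hz] at this)
        obtain ⟨i, hi⟩ := Cd.prim (z / y) (div_ne_zero hz0 hy0)
        refine ⟨i, ?_⟩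
        have := hi y
        rwa [div_mul_cancel₀ _ hy0, hy, hz] at this
      nD := fun g hg hgT d hd => by
        rcases (L.hE.mem d).1 hd with h1 | ⟨h1, h3⟩
        · rw [h1, mul_one, mul_inv_cancel]
          exact one_mem E
        · exact (L.hE.mem _).2 (Or.inr ⟨h.conj g d h1, hgT d h3⟩) }
  let K : TwoXDih.Coord C :=
    { F := Cd.F
      φ := Cd.φ
      φ_add := Cd.φ_add
      prim := Cd.prim
      semi := fun g hg hgD => Cd.semi g hg hgD }
  obtain ⟨S, hS⟩ := C.full.exists_sylow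
  have hlt : C.T < (S : Subgroup G) := lt_of_le_of_ne hS fun e =>
    h.not_central_sylow hB hgen L.hw L.hbad S fun s hs => (mem_ptC.1 (tt_le (T := T) (e ▸ hs : s ∈ C.T))).1
  obtain ⟨htD, hn⟩ := C.fusion S hlt
  obtain ⟨Q, k, F⟩ := TwoXDih.Loc.exists_sys (C.toLoc hn)
  obtain ⟨Z, hZ⟩ := (TwoXDih.Tw.exists_isZ Q F.tw).1
  rcases F.dich hZ with htop | hfull
  · exact C.orbit_one_false h2 F htop
  by_cases h4 : Nat.card C.D = 4
  · exact F.not_full_four htD h4 hZ hfull
  have h8 : 8 ≤ Nat.card C.D := by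
    obtain ⟨r, hr, h2r⟩ := L.card_pow
    change 8 ≤ Nat.card E
    change ¬ Nat.card E = 4 at h4
    rw [hr] at h4 ⊢
    calc 8 = 2 ^ 3 := rfl
      _ ≤ 2 ^ r := Nat.pow_le_pow_right two_pos (by
        rcases h2r.lt_or_eq with h5 | h5
        · omega
        · exact absurd (by rw [← h5]; rfl) h4)
  obtain ⟨hq, hidx⟩ := TwoXDih.ECfg.eight_of_full K F htD hZ h8 hfull
  by_cases hf : F.tw.Flat
  · exact TwoXDih.ECfg.flat_false h2 F htD hZ hq hidx hf
  · exact TwoXDih.ECfg.nonflat_false h2 F htD hZ hfull hq hidx hf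

end LineCfg

end Cfsg.Agent.GoodInvol
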