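import Cfsg.Agent.Lib.GoodInvol.CaseBL2.Params

/-!
# The Sylow subgroup of the normaliser of `w E` and its part centralising `E`

`x2` is that part: it is transitive on `w E`, `psi x = w * x w x⁻¹` maps it to `E`, and twins of `w` in it lie in
one coset of `E` for each value of `psi`; if every value occurs, `(y y') ^ 2 = psi y * psi y'`.
-/

set_option autoImplicit false
set_option linter.style.haveILetI false
set_option linter.unusedSectionVars false

namespace Cfsg.Agent.GoodInvol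

open Subgroup MulAction

universe u

variable {G : Type u} [Group G] [Finite G] {Ω : Type u} [MulAction G Ω] [Finite Ω] [FaithfulSMul G Ω] {D : Set G}

namespace LineCfg

/-- The normaliser of `E` and `w E` at `a`. -/
abbrev nn (w : G) (a : Ω) (E : Subgroup G) : Subgroup G := cosetNorm E w ⊓ stabilizer G a

variable {w : G} {a : Ω} {E : Subgroup G}

/-- A Sylow subgroup of it in the whole group. -/
abbrev sg (S1 : Sylow 2 (nn w a E)) : Subgroup G := (S1 : Subgroup (nn w a E)).map (nn w a E).subtype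

/-- Its part centralising `E`. -/
abbrev x2 (S1 : Sylow 2 (nn w a E)) : Subgroup G := sg S1 ⊓ Subgroup.centralizer (E : Set G)

/-- The elements fixing `a` and normalising `E` and `x2`. -/
abbrev hgrp (S1 : Sylow 2 (nn w a E)) : Subgroup G :=
  stabilizer G a ⊓ Subgroup.normalizer (E : Set G) ⊓ Subgroup.normalizer (x2 S1 : Set G)

/-- The value of an element of `x2`. -/
def psi (w x : G) : G := w * (x * w * x⁻¹)

theorem mem_cent_E {x : G} : x ∈ Subgroup.centralizer (E : Set G) ↔ ∀ e ∈ E, Commute x e :=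
  ⟨fun hx e he => (mem_centralizer_iff.1 hx e he).symm, fun hx => mem_centralizer_iff.2 fun e he => (hx e he).symm.eq⟩

variable {S1 : Sylow 2 (nn w a E)}

theorem sg_le : sg S1 ≤ nn w a E := map_subtype_le _

theorem sg_two : IsPGroup 2 (sg S1) := S1.2.map _

theorem sg_max {P : Subgroup G} (hP : IsPGroup 2 P) (hle : P ≤ nn w a E) (h1 : sg S1 ≤ P) : P = sg S1 := by
  have h2 := S1.3 (hP.comap_subtype : IsPGroup 2 (P.subgroupOf (nn w a E)))
    (fun s hs => h1 (mem_map_of_mem _ hs))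
  show P = (S1 : Subgroup (nn w a E)).map (nn w a E).subtype
  rw [← h2, ← subgroupOf, subgroupOf_map_subtype, inf_eq_left.2 hle]

theorem sg_ord {g : G} (hg : g ∈ sg S1) : ∃ n : ℕ, orderOf g = 2 ^ n := by
  haveI : Fact (Nat.Prime 2) := ⟨Nat.prime_two⟩
  obtain ⟨n, hn⟩ := IsPGroup.iff_orderOf.1 (sg_two (S1 := S1)) ⟨g, hg⟩
  exact ⟨n, by rw [← hn, Subgroup.orderOf_mk]⟩

theorem sg_conj_E {g : G} (hg : g ∈ sg S1) {e : G} (he : e ∈ E) : g * e * g⁻¹ ∈ E :=
  ((sg_le hg).1.1 e).2 he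

theorem x2_cent {x : G} (hx : x ∈ x2 S1) : ∀ e ∈ E, Commute x e := mem_cent_E.1 hx.2

theorem x2_fix {x : G} (hx : x ∈ x2 S1) : x • a = a := (sg_le hx.1).2

theorem hgrp_fix {g : G} (hg : g ∈ hgrp S1) : g • a = a := hg.1.1

theorem hgrp_E {g : G} (hg : g ∈ hgrp S1) {e : G} (he : e ∈ E) : g * e * g⁻¹ ∈ E :=
  (mem_normalizer_iff.1 hg.1.2 e).1 he

theorem hgrp_x2 {g : G} (hg : g ∈ hgrp S1) {x : G} (hx : x ∈ x2 S1) : g * x * g⁻¹ ∈ x2 S1 :=
  (mem_normalizer_iff.1 hg.2 x).1 hx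

variable {T : Sylow 2 (ptC w a)} (L : LineCfg D w a T E)
include L

theorem tt_le_nn : tt T ≤ nn w a E := fun t ht => ⟨L.mem_cosetNorm (mem_ptC.1 (tt_le ht)).1 (L.hE.norm t ht),
  (mem_ptC.1 (tt_le ht)).2⟩

theorem exists_sylow_nn : ∃ S1 : Sylow 2 (nn w a E), tt T ≤ sg S1 := by
  obtain ⟨S1, hS1⟩ := ((tt_two (T := T)).comap_subtype : IsPGroup 2 ((tt T).subgroupOf (nn w a E))).exists_le_sylow
  exact ⟨S1, fun t ht => ⟨⟨t, L.tt_le_nn ht⟩, hS1 ht, rfl⟩⟩

variable (hT1 : tt T ≤ sg S1)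
include hT1

theorem sg_inter (h : Crit D Ω) {g : G} (hg : g ∈ sg S1) (hgw : Commute g w) : g ∈ tt T :=
  (L.full h).inter sg_two hT1 hg hgw.eq

theorem w_x2 : w ∈ x2 S1 := ⟨hT1 L.w_mem, mem_cent_E.2 fun _ he => (L.eset_commute he).symm⟩

theorem E_x2 {e : G} (he : e ∈ E) : e ∈ x2 S1 :=
  ⟨hT1 (L.hE.le he), mem_cent_E.2 fun f hf => L.hE.comm e he f hf⟩

omit hT1 in
theorem psi_mem {x : G} (hx : x ∈ x2 S1) : psi w x ∈ E := by
  have h1 : w⁻¹ * (x * w * x⁻¹) ∈ E := ((sg_le hx.1).1.2 w).2 (by rw [inv_mul_cancel]; exact one_mem E)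
  rwa [Invol.inv_self L.hw] at h1

omit hT1 in
theorem psi_conj_eq (x : G) : x * w * x⁻¹ = w * psi w x := by
  rw [psi, ← mul_assoc w w, Invol.mul_self L.hw, one_mul]

omit hT1 in
theorem psi_mul {x x' : G} (hx : x ∈ x2 S1) (hx' : x' ∈ x2 S1) :
    psi w (x * x') = psi w x * psi w x' := by
  have hc : x * psi w x' * x⁻¹ = psi w x' := mul_inv_eq_iff_eq_mul.2 (x2_cent hx _ (L.psi_mem hx')).eq
  apply mul_left_cancel (a := w)
  rw [← L.psi_conj_eq, ← mul_assoc, ← L.psi_conj_eq]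
  conv_rhs => rw [← hc]
  rw [show x * x' * w * (x * x')⁻¹ = x * (x' * w * x'⁻¹) * x⁻¹ by group, L.psi_conj_eq x']
  group

omit hT1 in
theorem psi_eq_one {x : G} (hx : x ∈ x2 S1) (h1 : psi w x = 1) : Commute x w := by
  have h2 := L.psi_conj_eq x
  rw [h1, mul_one] at h2
  exact mul_inv_eq_iff_eq_mul.1 h2

omit hT1 in
theorem psi_twin {y : G} (hy : IsTwin w a E y) : psi w y = (w * y) * (w * y) := by
  rw [psi, Invol.inv_self (L.twin_order hy)]
  group

omit hT1 in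
/-- Two twins with one value differ by an element of `E`. -/
theorem fibre (h : Crit D Ω) {y y' : G} (hy : y ∈ x2 S1) (hy' : y' ∈ x2 S1) (ty : IsTwin w a E y)
    (ty' : IsTwin w a E y') (he : psi w y = psi w y') : y⁻¹ * y' ∈ E := by
  have hyy := Invol.mul_self (L.twin_order ty)
  have hm : y⁻¹ * y' ∈ x2 S1 := mul_mem (inv_mem hy) hy'
  have h1 : psi w (y⁻¹ * y') = 1 := by
    rw [Invol.inv_self (L.twin_order ty), L.psi_mul hy hy', he, L.hE.sq _ (L.psi_mem hy')]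
  have hcw := L.psi_eq_one hm h1
  rcases L.cent_two h hcw (x2_fix hm) (sg_ord hm.1) (x2_cent hm) with h2 | h2
  · exact h2
  exfalso
  set e := w * (y⁻¹ * y') with he'
  have hy'e : y' = y * w * e := by
    rw [he', mul_assoc y, ← mul_assoc w, Invol.mul_self L.hw, one_mul, mul_inv_cancel_left]
  have hce : Commute (y * w) e := (ty.cent e h2).mul_left (L.eset_commute h2).symm
  have h3 := Invol.mul_self (L.twin_order ty')
  have h4 : (y * w) * (y * w) = 1 := by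
    rw [hy'e] at h3
    rwa [mul_assoc, ← mul_assoc e, ← hce.eq, mul_assoc (y * w) e e, L.hE.sq e h2, mul_one] at h3
  have hcyw : Commute y w := by
    have h5 := eq_inv_of_mul_eq_one_right h4
    rwa [mul_inv_rev, Invol.inv_self L.hw, Invol.inv_self (L.twin_order ty)] at h5
  have h5 := L.comm_twin h L.self_twin ty hcyw.symm
  rw [Invol.inv_self L.hw] at h5
  refine L.twin_notMem h ty' ?_
  rw [hy'e, hcyw.eq]
  exact mul_mem h5 h2

/-- The elements of `x2` are transitive on `w E`. -/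
theorem trans_x2 (h : Crit D Ω) (hB : Below.{u} (Nat.card G)) (hgen : closure D = ⊤) (h8 : Nat.card E ≠ 8)
    {e : G} (he : e ∈ E) : ∃ x ∈ x2 S1, x * w * x⁻¹ = w * e := by
  classical
  obtain ⟨r, hr, -⟩ := L.card_pow
  have horb : SixInv.orb (nn w a E ⊓ Subgroup.centralizer (E : Set G)) w = (fun f => w * f) '' (E : Set G) := by
    ext z
    constructor
    · rintro ⟨g, hg, rfl⟩
      refine ⟨w⁻¹ * (g * w * g⁻¹), (hg.1.1.2 w).2 (by rw [inv_mul_cancel]; exact one_mem E), ?_⟩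
      exact mul_inv_cancel_left w _
    · rintro ⟨f, hf, rfl⟩
      obtain ⟨g, hg, hgc, hgw⟩ := L.exists_translation h hB hgen h8 hf
      exact ⟨g, ⟨hg, mem_cent_E.2 fun x hx => mul_inv_eq_iff_eq_mul.1 (hgc x hx)⟩, hgw⟩
  obtain ⟨x, hx, hxw⟩ := exists_conj_of_sylow S1 (C := Subgroup.centralizer (E : Set G))
    (fun g hg x hx => mem_cent_E.2 fun f hf => by
      have hf' : g⁻¹ * f * g ∈ E := (hg.1.1 _).1 (by rwa [show g * (g⁻¹ * f * g) * g⁻¹ = f by group])
      show g * x * g⁻¹ * f = f * (g * x * g⁻¹)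
      calc g * x * g⁻¹ * f = g * (x * (g⁻¹ * f * g)) * g⁻¹ := by group
        _ = g * ((g⁻¹ * f * g) * x) * g⁻¹ := by rw [(mem_cent_E.1 hx _ hf').eq]
        _ = _ := by group) horb (r := r)
    (by rw [Set.ncard_image_of_injective _ (mul_right_injective w), ← Nat.card_coe_set_eq]; exact hr)
    (z := w * e) ⟨e, he, rfl⟩
  exact ⟨x, hx, hxw⟩

/-- An element of the Sylow subgroup is one of `x2` times one of `T`. -/
theorem sg_split (h : Crit D Ω) (hB : Below.{u} (Nat.card G)) (hgen : closure D = ⊤) (h8 : Nat.card E ≠ 8)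
    {s : G} (hs : s ∈ sg S1) : ∃ x ∈ x2 S1, x⁻¹ * s ∈ tt T := by
  have he : w⁻¹ * (s * w * s⁻¹) ∈ E := ((sg_le hs).1.2 w).2 (by rw [inv_mul_cancel]; exact one_mem E)
  obtain ⟨x, hx, hxw⟩ := L.trans_x2 hT1 h hB hgen h8 he
  rw [mul_inv_cancel_left] at hxw
  refine ⟨x, hx, L.sg_inter hT1 h (mul_mem (inv_mem hx.1) hs) ?_⟩
  show x⁻¹ * s * w = w * (x⁻¹ * s)
  calc x⁻¹ * s * w = x⁻¹ * (s * w * s⁻¹) * s := by group
    _ = x⁻¹ * (x * w * x⁻¹) * s := by rw [hxw]
    _ = _ := by group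

/-- An element of the centraliser has the action on `E` of one normalising `x2`. -/
theorem frattini (h : Crit D Ω) (hB : Below.{u} (Nat.card G)) (hgen : closure D = ⊤) (h8 : Nat.card E ≠ 8)
    {n : G} (hn : n ∈ nn w a E) (hnw : Commute n w) :
    ∃ m ∈ hgrp S1, Commute m w ∧ ∀ e ∈ E, m * e * m⁻¹ = n * e * n⁻¹ := by
  classical
  haveI : Fact (Nat.Prime 2) := ⟨Nat.prime_two⟩
  set Y := (Subgroup.centralizer (E : Set G)).subgroupOf (nn w a E) with hY
  haveI hYn : Y.Normal := ⟨fun x hx g => mem_subgroupOf.2 (mem_cent_E.2 fun f hf => by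
    have hf' : (g : G)⁻¹ * f * g ∈ E := (g.2.1.1 _).1 (by rwa [show (g : G) * ((g : G)⁻¹ * f * g) * (g : G)⁻¹ = f by group])
    show (g : G) * x * (g : G)⁻¹ * f = f * ((g : G) * x * (g : G)⁻¹)
    calc (g : G) * x * (g : G)⁻¹ * f = g * (x * ((g : G)⁻¹ * f * g)) * (g : G)⁻¹ := by group
      _ = g * (((g : G)⁻¹ * f * g) * x) * (g : G)⁻¹ := by rw [(mem_cent_E.1 (mem_subgroupOf.1 hx) _ hf').eq]
      _ = _ := by group)⟩
  obtain ⟨PY, hPY⟩ := PBasic.exists_sylow_subgroupOf S1 Y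
  have hgmem : (⟨n, hn⟩ : nn w a E) ∈
      Subgroup.normalizer (((PY : Subgroup Y).map Y.subtype : Subgroup (nn w a E)) : Set (nn w a E)) ⊔ Y := by
    rw [Sylow.normalizer_sup_eq_top]; exact mem_top _
  rw [sup_comm, mem_sup_of_normal_left] at hgmem
  obtain ⟨c, hc, m, hm, hcm⟩ := hgmem
  have hset : (PY : Subgroup Y).map Y.subtype = (S1 : Subgroup (nn w a E)) ⊓ Y := by rw [hPY, subgroupOf_map_subtype]
  rw [hset, mem_normalizer_iff] at hm
  have hmnorm : (m : G) ∈ Subgroup.normalizer (x2 S1 : Set G) := by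
    refine Subgroup.mem_normalizer_fintype fun z hz => ?_
    obtain ⟨⟨z0, hz0, rfl⟩, hzc⟩ := hz
    have h1 := (hm z0).1 ⟨hz0, mem_subgroupOf.2 hzc⟩
    exact ⟨⟨_, h1.1, rfl⟩, mem_subgroupOf.1 h1.2⟩
  have hmn : ∀ e ∈ E, (m : G) * e * (m : G)⁻¹ = n * e * n⁻¹ := fun e he => by
    have hme : (m : G) * e * (m : G)⁻¹ ∈ E := (m.2.1.1 e).2 he
    have h1 : n = (c : G) * m := (congrArg Subtype.val hcm).symm
    rw [h1, show (c : G) * m * e * ((c : G) * m)⁻¹ = c * ((m : G) * e * (m : G)⁻¹) * (c : G)⁻¹ by group,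
      (mem_cent_E.1 (mem_subgroupOf.1 hc) _ hme).eq, mul_inv_cancel_right]
  have hmH : (m : G) ∈ hgrp S1 :=
    ⟨⟨m.2.2, mem_normalizer_iff.2 fun z => (m.2.1.1 z).symm⟩, hmnorm⟩
  have he : w⁻¹ * ((m : G) * w * (m : G)⁻¹) ∈ E := (m.2.1.2 w).2 (by rw [inv_mul_cancel]; exact one_mem E)
  obtain ⟨x, hx, hxw⟩ := L.trans_x2 hT1 h hB hgen h8 he
  rw [mul_inv_cancel_left] at hxw
  have hxH : x ∈ hgrp S1 := ⟨⟨x2_fix hx, mem_normalizer_iff.2 fun z => ((sg_le hx.1).1.1 z).symm⟩, le_normalizer hx⟩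
  refine ⟨x⁻¹ * m, mul_mem (inv_mem hxH) hmH, ?_, fun e he => ?_⟩
  · show x⁻¹ * (m : G) * w = w * (x⁻¹ * (m : G))
    calc x⁻¹ * (m : G) * w = x⁻¹ * ((m : G) * w * (m : G)⁻¹) * m := by group
      _ = x⁻¹ * (x * w * x⁻¹) * m := by rw [hxw]
      _ = _ := by group
  · have hme : (m : G) * e * (m : G)⁻¹ ∈ E := (m.2.1.1 e).2 he
    rw [show x⁻¹ * (m : G) * e * (x⁻¹ * (m : G))⁻¹ = x⁻¹ * ((m : G) * e * (m : G)⁻¹) * x by group,
      (x2_cent (inv_mem hx) _ hme).eq, inv_mul_cancel_right, hmn e he]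

omit hT1 in
/-- The commutator of two twins in `x2` when all values occur. -/
theorem beta (h : Crit D Ω) (hfull : ∀ e ∈ E, ∃ y ∈ x2 S1, IsTwin w a E y ∧ psi w y = e) {y y' : G}
    (hy : y ∈ x2 S1) (hy' : y' ∈ x2 S1) (ty : IsTwin w a E y) (ty' : IsTwin w a E y') :
    (y * y') * (y * y') = psi w y * psi w y' := by
  have hyy := Invol.mul_self (L.twin_order ty)
  have hyy' := Invol.mul_self (L.twin_order ty')
  have hinv : ∀ z z' : G, z * z = 1 → z' * z' = 1 →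
      (z' * z) * (z' * z) = ((z * z') * (z * z'))⁻¹ := fun z z' hz hz' => by
    rw [mul_inv_rev, mul_inv_rev, inv_eq_of_mul_eq_one_right hz, inv_eq_of_mul_eq_one_right hz']
  obtain ⟨y'', hy'', ty'', hpsi⟩ := hfull _ (mul_mem (L.psi_mem hy) (L.psi_mem hy'))
  by_cases heq : psi w y = psi w y'
  · rw [heq, L.hE.sq _ (L.psi_mem hy')]
    have he := L.fibre h hy hy' ty ty' heq
    rw [Invol.inv_self (L.twin_order ty)] at he
    exact L.hE.sq _ he
  have hz : (y * y') ∈ x2 S1 := mul_mem hy hy'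
  have hzy : psi w (y''⁻¹ * (y * y')) = 1 := by
    rw [Invol.inv_self (L.twin_order ty''), L.psi_mul hy'' hz, L.psi_mul hy hy', hpsi,
      L.hE.sq _ (mul_mem (L.psi_mem hy) (L.psi_mem hy'))]
  have hm : y''⁻¹ * (y * y') ∈ x2 S1 := mul_mem (inv_mem hy'') hz
  rcases L.cent_two h (L.psi_eq_one hm hzy) (x2_fix hm) (sg_ord hm.1) (x2_cent hm) with h2 | h2
  · exfalso
    refine heq ?_
    set e := y''⁻¹ * (y * y') with he
    have hzz : (y * y') * (y * y') = 1 := by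
      rw [show y * y' = y'' * e by rw [he, mul_inv_cancel_left], mul_assoc, ← mul_assoc e, ← (ty''.cent e h2).eq,
        mul_assoc y'' e e, L.hE.sq e h2, mul_one, Invol.mul_self (L.twin_order ty'')]
    have hcc : Commute y y' := by
      have h5 := eq_inv_of_mul_eq_one_right hzz
      rwa [mul_inv_rev, Invol.inv_self (L.twin_order ty), Invol.inv_self (L.twin_order ty')] at h5
    have h6 := L.comm_twin h ty ty' hcc
    have h7 : psi w (y⁻¹ * y') = 1 := by
      rw [psi, show y⁻¹ * y' * w * (y⁻¹ * y')⁻¹ = w from mul_inv_eq_iff_eq_mul.2 (L.eset_commute h6).eq,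
        Invol.mul_self L.hw]
    rw [Invol.inv_self (L.twin_order ty), L.psi_mul hy hy'] at h7
    rw [eq_inv_of_mul_eq_one_left h7, L.eset_inv (L.psi_mem hy')]
  · set e := w * (y''⁻¹ * (y * y')) with he
    have hz' : y * y' = y'' * w * e := by
      rw [he, mul_assoc y'', ← mul_assoc w, Invol.mul_self L.hw, one_mul, mul_inv_cancel_left]
    have hce : Commute (y'' * w) e := (ty''.cent e h2).mul_left (L.eset_commute h2).symm
    rw [hz', mul_assoc, ← mul_assoc e, ← hce.eq, mul_assoc (y'' * w) e e, L.hE.sq e h2, mul_one,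
      hinv w y'' (Invol.mul_self L.hw) (Invol.mul_self (L.twin_order ty'')), ← L.psi_twin ty'', hpsi]
    exact L.eset_inv (mul_mem (L.psi_mem hy) (L.psi_mem hy'))

omit hT1 in
/-- The values follow the conjugation. -/
theorem psi_smul (h : Crit D Ω) (hfull : ∀ e ∈ E, ∃ y ∈ x2 S1, IsTwin w a E y ∧ psi w y = e) {g y : G}
    (hgy : g * y * g⁻¹ ∈ x2 S1) (hgw : g * w * g⁻¹ ∈ x2 S1) (tgy : IsTwin w a E (g * y * g⁻¹))
    (tgw : IsTwin w a E (g * w * g⁻¹)) (ty : IsTwin w a E y) (hy : y ∈ x2 S1) :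
    psi w (g * y * g⁻¹) = g * psi w y * g⁻¹ * psi w (g * w * g⁻¹) := by
  have h1 := L.beta h hfull hgy hgw tgy tgw
  have h2 : (g * y * g⁻¹) * (g * w * g⁻¹) * ((g * y * g⁻¹) * (g * w * g⁻¹)) = g * psi w y * g⁻¹ := by
    have h3 : (y * w) * (y * w) = psi w y := by
      have h4 : ((w * y) * (w * y))⁻¹ = (y * w) * (y * w) := by
        rw [mul_inv_rev, mul_inv_rev, Invol.inv_self (L.twin_order ty), Invol.inv_self L.hw]
      rw [← h4, ← L.psi_twin ty, L.eset_inv (L.psi_mem hy)]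
    rw [← h3]; group
  rw [h2] at h1
  rw [h1, mul_assoc (psi w (g * y * g⁻¹)), L.hE.sq _ (L.psi_mem hgw), mul_one]

end LineCfg

end Cfsg.Agent.GoodInvol
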