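import Cfsg.Agent.Lib.GoodInvol.CaseBL2.Sylow
import Cfsg.Agent.Lib.GoodInvol.CaseBL2.CyclicTransfer

/-!
# Case B, type L2: an involution with a projective line of fixed points is impossible

With a field part of order `2 ^ j` the transfer to the field part modulo squares gives a subgroup of index two.
-/

set_option autoImplicit false
set_option linter.style.haveILetI false
set_option linter.unusedSectionVars false

namespace Cfsg.Agent.GoodInvol

open Subgroup MulAction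

universe u

variable {G : Type u} [Group G] [Finite G] {Ω : Type u} [MulAction G Ω] [Finite Ω] [FaithfulSMul G Ω] {D : Set G}

namespace LineCfg

variable {w : G} {a : Ω} {T : Sylow 2 (ptC w a)} {E : Subgroup G} (L : LineCfg D w a T E)
include L

theorem false_of_dvd (h : Crit D Ω) (hB : Below.{u} (Nat.card G)) (hgen : closure D = ⊤)
    (hdvd : ∀ z : Ω, z ≠ a → Nat.card E * ((fixSet Ω w).ncard - 1) ∣ (orbit (stabilizer G a) z).ncard) : False := by
  classical
  haveI : Fact (Nat.Prime 2) := ⟨Nat.prime_two⟩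
  obtain ⟨x, hx, hxa⟩ := L.exists_second
  obtain ⟨g, j, hgT, hgx, hgw, hgen', hcent, hne8⟩ := L.exists_gen h hB hgen hx hxa
  have hsplit : ∀ t ∈ tt T, ∃ m : ℕ, ∀ e ∈ E, t * e * t⁻¹ = g ^ m * e * (g ^ m)⁻¹ := fun t ht => by
    obtain ⟨f, hf, hfx⟩ := L.exists_eset_mul h hx hxa ht
    obtain ⟨m, hm : g ^ m = f * t⟩ := mem_powers_iff_mem_zpowers.2 (hgen' _ (mul_mem (L.hE.le hf) ht) hfx)
    refine ⟨m, fun e he => ?_⟩
    have hte := L.hE.norm t ht e he
    rw [hm, show f * t * e * (f * t)⁻¹ = f * (t * e * t⁻¹) * f⁻¹ by group, (L.hE.comm f hf _ hte).eq,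
      mul_inv_cancel_right]
  by_cases hj : j = 0
  · refine L.flat_false h hB hgen fun t ht => L.tt_cent h ht fun e he => ?_
    obtain ⟨m, hm⟩ := hsplit t ht
    refine mul_inv_eq_iff_eq_mul.1 ((hm e he).trans ?_)
    rw [((hcent m).2 (by rw [hj, pow_zero]; exact one_dvd m) e he).eq, mul_inv_cancel_right]
  obtain ⟨S, hTS, hnorm, hact, hinner⟩ := L.exists_sylow h hB hgen (hne8 hj) hdvd
  have hSa := L.sylow_fix h S hTS
  -- the action on `E`
  let π : (S : Subgroup G) →* Equiv.Perm E :=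
    { toFun := fun s =>
        { toFun := fun e => ⟨(s : G) * e * (s : G)⁻¹, hnorm s s.2 e e.2⟩
          invFun := fun e => ⟨((s⁻¹ : (S : Subgroup G)) : G) * e * ((s⁻¹ : (S : Subgroup G)) : G)⁻¹,
            hnorm _ (s⁻¹).2 e e.2⟩
          left_inv := fun e => Subtype.ext (by simp [mul_assoc])
          right_inv := fun e => Subtype.ext (by simp [mul_assoc]) }
      map_one' := Equiv.ext fun e => Subtype.ext (by simp)
      map_mul' := fun s s' => Equiv.ext fun e => Subtype.ext (by simp [mul_assoc]) }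
  set g0 : (S : Subgroup G) := ⟨g, hTS hgT⟩ with hg0
  have hπ1 : ∀ s : (S : Subgroup G), π s = 1 ↔ ∀ e ∈ E, Commute (s : G) e := by
    refine fun s => ⟨fun hs e he => mul_inv_eq_iff_eq_mul.1
      (congrArg (fun p : Equiv.Perm E => ((p ⟨e, he⟩ : E) : G)) hs), fun hs => Equiv.ext fun e => Subtype.ext ?_⟩
    show (s : G) * e * (s : G)⁻¹ = e
    rw [(hs e e.2).eq, mul_inv_cancel_right]
  have hπg : ∀ m : ℕ, π g0 ^ m = 1 ↔ 2 ^ j ∣ m := fun m => by
    rw [← map_pow, hπ1, ← hcent m, hg0, SubgroupClass.coe_pow]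
  have hord : orderOf (π g0) = 2 ^ j := Nat.dvd_antisymm (orderOf_dvd_of_pow_eq_one ((hπg _).2 dvd_rfl))
    ((hπg _).1 (pow_orderOf_eq_one _))
  have hπS : ∀ s, ∃ m : ℕ, π s = π g0 ^ m := fun s => by
    obtain ⟨t, ht, hte⟩ := hact s s.2
    obtain ⟨m, hm⟩ := hsplit t ht
    refine ⟨m, ?_⟩
    rw [← map_pow]
    refine Equiv.ext fun e => Subtype.ext ?_
    show (s : G) * e * (s : G)⁻¹ = ((g0 ^ m : (S : Subgroup G)) : G) * e * ((g0 ^ m : (S : Subgroup G)) : G)⁻¹
    rw [hte e e.2, hm e e.2, SubgroupClass.coe_pow]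
  obtain ⟨j', rfl⟩ : ∃ j', j = j' + 1 := ⟨j - 1, by omega⟩
  -- the sign
  set K0 := (zpowers (π g0 ^ 2)).comap π with hK0
  have hmem : ∀ (s : (S : Subgroup G)) (m : ℕ), π s = π g0 ^ m → (s ∈ K0 ↔ 2 ∣ m) := fun s m hs => by
    constructor
    · intro hk
      have hk' : π s ∈ zpowers (π g0 ^ 2) := hk
      obtain ⟨k, hk'' : (π g0 ^ 2) ^ k = π s⟩ := mem_powers_iff_mem_zpowers.2 hk'
      rw [hs, ← pow_mul] at hk''
      have h3 : 2 * k ≡ m [MOD 2] := (pow_eq_pow_iff_modEq.1 hk'').of_dvd (by rw [hord]; exact dvd_pow_self 2 (by omega))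
      exact (Nat.ModEq.dvd_iff h3 dvd_rfl).1 (dvd_mul_right 2 k)
    · rintro ⟨k, rfl⟩
      show π s ∈ zpowers (π g0 ^ 2)
      rw [hs, pow_mul]
      exact pow_mem (mem_zpowers _) k
  have hidx : K0.index = 2 := by
    rw [index_eq_two_iff_exists_notMem_and']
    refine ⟨g0, fun hc => absurd ((hmem g0 1 (pow_one _).symm).1 hc) (by omega), fun b => ?_⟩
    obtain ⟨m, hm⟩ := hπS b
    rw [hmem b m hm, hmem (g0 * b) (1 + m) (by rw [map_mul, hm, pow_add, pow_one])]
    omega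
  let φ : (S : Subgroup G) →* Multiplicative (ZMod 2) :=
    MonoidHom.mk' (fun s => if s ∈ K0 then 1 else Multiplicative.ofAdd 1) fun s s' => by
      have hiff := Subgroup.mul_mem_iff_of_index_two hidx (a := s) (b := s')
      by_cases h1 : s ∈ K0 <;> by_cases h2 : s' ∈ K0 <;> simp [hiff, h1, h2] <;> exact (by decide +revert)
  have hφ : ∀ s, φ s = 1 ↔ s ∈ K0 := fun s => by
    show (if s ∈ K0 then (1 : Multiplicative (ZMod 2)) else Multiplicative.ofAdd 1) = 1 ↔ _
    split_ifs with hs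
    · exact iff_of_true rfl hs
    · exact iff_of_false (ne_of_apply_ne Multiplicative.toAdd one_ne_zero) hs
  have hordg : orderOf g = 2 ^ (j' + 2) := by
    refine orderOf_eq_prime_pow ?_ ?_
    · rw [hgw]; exact Invol.ne_one L.hw
    · rw [show j' + 1 + 1 = j' + 2 by rfl, pow_succ, pow_mul, hgw, pow_two, Invol.mul_self L.hw]
  have hwc : ∀ c : G, ∃ d : G, d * w * d⁻¹ = c⁻¹ * w * c := fun c => ⟨c⁻¹, by rw [inv_inv]⟩
  refine (exists_index_two_of_sign S φ hordg (fun c hc h1 => ?_) fun i c hc => ?_).elim fun H hH =>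
    h.index_ne_two hB hgen L.hw L.ha hx hxa.symm H hH
  · -- a conjugate of the generator
    obtain ⟨m, hm⟩ := hπS ⟨_, hc⟩
    obtain ⟨k, rfl⟩ := (hmem _ m hm).1 ((hφ _).1 h1)
    set y : (S : Subgroup G) := ⟨_, hc⟩ ^ 2 ^ j' with hy
    have hyE : ∀ e ∈ E, Commute (y : G) e := by
      refine (hπ1 y).1 ?_
      rw [hy, map_pow, hm, ← pow_mul, hπg]
      exact ⟨k, by rw [pow_succ]; ring⟩
    have hy2 : (y : G) * (y : G) = c⁻¹ * w * c := by
      rw [hy, SubgroupClass.coe_pow, ← pow_add, ← two_mul, ← pow_succ']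
      have := conj_pow (i := 2 ^ (j' + 1)) (a := c⁻¹) (b := g)
      rw [inv_inv, hgw] at this
      exact this
    refine L.no_root h ⟨hwc c, ?_, fun e he => ?_⟩ (hSa y y.2) hyE hy2
    · rw [← hy2, mul_smul, hSa y y.2, hSa y y.2]
    · rw [← hy2]
      exact (hyE e he).mul_left (hyE e he)
  · -- a conjugate of a proper power
    rw [hφ]
    by_contra hK
    obtain ⟨m, hm⟩ := hπS ⟨_, hc⟩
    set y : (S : Subgroup G) := ⟨_, hc⟩ ^ 2 ^ j' with hy
    have hy0 : (y : G) = c⁻¹ * g ^ (2 ^ (i + 1) * 2 ^ j') * c := by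
      rw [hy, SubgroupClass.coe_pow, pow_mul]
      have := conj_pow (i := 2 ^ j') (a := c⁻¹) (b := g ^ 2 ^ (i + 1))
      rw [inv_inv] at this
      exact this
    have hyE : ∀ e ∈ E, Commute (y : G) e := by
      rcases i with _ | i
      · refine hinner y y.2 ?_
        rw [hy0, show 2 ^ (0 + 1) * 2 ^ j' = 2 ^ (j' + 1) by ring, hgw]
        exact hwc c
      · intro e he
        rw [hy0, show 2 ^ (i + 1 + 1) * 2 ^ j' = 2 ^ (j' + 2) * 2 ^ i by ring, pow_mul, ← hordg,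
          pow_orderOf_eq_one, one_pow, mul_one, inv_mul_cancel]
        exact Commute.one_left e
    have h1 := (hπ1 y).2 hyE
    rw [hy, map_pow, hm, ← pow_mul, hπg, pow_succ, mul_comm (2 ^ j') 2] at h1
    exact hK ((hmem _ m hm).2 (Nat.dvd_of_mul_dvd_mul_right (Nat.two_pow_pos j') h1))

end LineCfg

/-- Case B, type L2, is impossible. -/
theorem Crit.line_false {w : G} {a : Ω} (h : Crit D Ω) (hB : Below.{u} (Nat.card G)) (hgen : closure D = ⊤)
    (hw : orderOf w = 2) (hbad : ¬ OneFix Ω w) (ha : w • a = a) (T : Sylow 2 (ptC w a)) {E : Subgroup G}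
    (hE : ESet D w a ((T : Subgroup (ptC w a)).map (ptC w a).subtype) E)
    (hf : (fixSet Ω w).ncard = Nat.card E + 1)
    (hdvd : ∀ z : Ω, z ≠ a → Nat.card E * ((fixSet Ω w).ncard - 1) ∣ (orbit (stabilizer G a) z).ncard)
    (hW : ∀ g ∈ wker Ω w ((T : Subgroup (ptC w a)).map (ptC w a).subtype), g = 1 ∨ g = w)
    (hcomp : ∀ v : G, orderOf v = 2 → Commute v w → v • a = a →
      (∃ x, x ≠ a ∧ w • x = x ∧ v • x = x) → v = w) : False :=
  LineCfg.false_of_dvd ⟨hw, hbad, ha, hE, hf, hW, hcomp⟩ h hB hgen hdvd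

end Cfsg.Agent.GoodInvol
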