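import Cfsg.Agent.Lib.GoodInvol.CaseBL2.Trans
import Cfsg.Agent.Lib.GoodInvol.Orbit

/-!
# The two possible degrees

With `q = |E|` and `|E| * (f - 1)` dividing the orbits at `a`, either the degree is `q ^ 2 + 1` and the stabiliser of `a` is
transitive on the other points, or it is `q ^ 3 + 1` and every member in a 2-group containing `T` is in `E`.
-/

set_option autoImplicit false
set_option linter.style.haveILetI false
set_option linter.unusedSectionVars false

namespace Cfsg.Agent.GoodInvol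

open Subgroup MulAction

universe u

variable {G : Type u} [Group G] [Finite G] {Ω : Type u} [MulAction G Ω] [Finite Ω] [FaithfulSMul G Ω] {D : Set G}

namespace LineCfg

variable {w : G} {a : Ω} {T : Sylow 2 (ptC w a)} {E : Subgroup G} (L : LineCfg D w a T E)
variable (h : Crit D Ω) (hB : Below.{u} (Nat.card G)) (hgen : closure D = ⊤)
include L h hB hgen

/-- The degree, the transitivity and the members of the 2-groups containing `T`. -/
theorem params (hdvd : ∀ z : Ω, z ≠ a → Nat.card E * ((fixSet Ω w).ncard - 1) ∣ (orbit (stabilizer G a) z).ncard) :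
    (Nat.card Ω = Nat.card E * Nat.card E + 1 ∧
        ∀ y z : Ω, y ≠ a → z ≠ a → ∃ g : G, g • a = a ∧ g • y = z) ∨
      (Nat.card Ω = Nat.card E * Nat.card E * Nat.card E + 1 ∧
        ∀ S : Subgroup G, IsPGroup 2 S → tt T ≤ S → ∀ d ∈ S, d ∈ D → d • a = a → d ∈ E) := by
  classical
  haveI : Fact (Nat.Prime 2) := ⟨Nat.prime_two⟩
  obtain ⟨x, hx⟩ : ∃ x : Ω, w • x ≠ x := by
    by_contra hc
    push Not at hc
    exact Invol.ne_one L.hw (FaithfulSMul.eq_of_smul_eq_smul (α := Ω) fun x => (hc x).trans (one_smul G x).symm)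
  obtain ⟨e0, he0, -, -, he01, -, -⟩ := L.hE.two
  have hd : e0 ∈ cmem D w := ⟨(((L.hE.mem e0).1 he0).resolve_left he01).1, L.eset_commute he0⟩
  obtain ⟨r, hr, h2r⟩ := L.card_pow
  set q := Nat.card E with hq
  have hqpos : 4 ≤ q := by
    rw [hr]
    calc 4 = 2 ^ 2 := rfl
      _ ≤ 2 ^ r := Nat.pow_le_pow_right two_pos h2r
  obtain ⟨kx, hκ, hμ, hkodd, hncodd, hιle, hncle⟩ := h.exists_centre_count hB hgen L.hw L.hbad hx hd
  have hmod := h.csig_modEq_kap hB hgen L.hw L.hbad L.ha L.hE hdvd hd hx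
  rw [hκ, hμ, ← hq] at hmod
  rw [L.hf, ← hq] at hncle
  set nc := (centres D w x).ncard with hnc
  set ι := iota Ω w x with hι
  have hιodd : Odd ι := Crit.odd_iota w x
  have hcop : Nat.gcd q kx = 1 := by
    rw [hr]
    exact Nat.Coprime.pow_left r (Nat.coprime_two_left.2 hkodd)
  have hdiv : q ∣ nc - ι := (Nat.modEq_iff_dvd' hιle).1 (Nat.ModEq.cancel_right_of_coprime hcop hmod).symm
  have hmoved := h.card_moved_eq hB hgen L.hw L.hbad L.ha hx
  rw [h.card_cdat_kap hB hgen L.hw L.hbad L.ha L.hE tt_le hd, hκ, hμ, L.hf, ← hq, Nat.add_sub_cancel] at hmoved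
  have hn : Nat.card Ω = q + 1 + (fixSet Ω w)ᶜ.ncard := by
    rw [← Set.ncard_add_ncard_compl (fixSet Ω w), L.hf]
  set M := (fixSet Ω w)ᶜ.ncard with hM
  rcases Nat.eq_zero_or_pos (nc - ι) with h0 | h0
  · -- equal lifts and swappers
    right
    have heq : nc = ι := by omega
    rw [heq] at hmoved hμ
    have hM' : M = (q + 1) * (q - 1) * q := by
      refine Nat.eq_of_mul_eq_mul_right (Nat.mul_pos hιodd.pos hkodd.pos) ?_
      rw [hmoved]; ring
    refine ⟨?_, ?_⟩
    · rw [hn, hM']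
      obtain ⟨p, hp⟩ : ∃ p, q = p + 1 := ⟨q - 1, by omega⟩
      rw [hp, Nat.add_sub_cancel]
      ring
    intro S hS hTS d hdS hdD hda
    have hsub : ∀ c ∈ cdat D w a, kap D Ω (w * c) c ⊆ dat D a := fun c hc f hf => ⟨hf.1.1, by
      rw [hf.2 a (by rw [mul_smul, hc.1.2, L.ha]), hc.1.2]⟩
    have hord : ∀ c ∈ cdat D w a, ∀ f ∈ kap D Ω (w * c) c,
        Odd (orderOf (f * c)) ∧ orderOf (f * w) = orderOf (f * c) * 2 ∧ (f * w) ^ orderOf (f * c) = w * c := by
      intro c hc f hf
      have hcm : c ∈ cmem D w := ⟨hc.1.1, hc.2⟩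
      have hv : orderOf (w * c) = 2 := h.mul_invol_of_cmem L.hw L.hbad hcm
      have hodd := h.odd_mul_kap (h.not_oneFix_mul L.hw L.hbad hc.1.1 hc.2) hc.1.1 hf.1.1 hf.2
      have hcomm : Commute (f * c) (w * c) := hf.1.2.mul_left (hc.2.mul_right (Commute.refl c))
      have efw : f * w = f * c * (w * c) := by
        calc f * w = f * (c * c) * w := by rw [Invol.mul_self (h.invol c hc.1.1), mul_one]
          _ = f * c * (c * w) := by group
          _ = _ := by rw [hc.2.eq]
      refine ⟨hodd, ?_, ?_⟩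
      · rw [efw, hcomm.orderOf_mul_eq_mul_orderOf_of_coprime (by rw [hv]; exact Nat.coprime_two_right.2 hodd), hv]
      · obtain ⟨i, hi⟩ := hodd
        rw [efw, hcomm.mul_pow, pow_orderOf_eq_one, one_mul, hi, pow_succ, pow_mul, pow_two, Invol.mul_self hv,
          one_pow, one_mul]
    have hdisj : (↑(cdat D w a).toFinite.toFinset : Set G).PairwiseDisjoint
        fun c => (kap D Ω (w * c) c).toFinite.toFinset := by
      intro c hc c' hc' hne
      rw [Set.Finite.coe_toFinset] at hc hc'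
      refine Finset.disjoint_left.2 fun f hf hf' => hne ?_
      rw [Set.Finite.mem_toFinset] at hf hf'
      obtain ⟨-, ho, hp⟩ := hord c hc f hf
      obtain ⟨-, ho', hp'⟩ := hord c' hc' f hf'
      have he : orderOf (f * c) = orderOf (f * c') := Nat.eq_of_mul_eq_mul_right two_pos (ho.symm.trans ho')
      exact mul_left_cancel (hp.symm.trans (he ▸ hp'))
    have hall : (cdat D w a).toFinite.toFinset.biUnion (fun c => (kap D Ω (w * c) c).toFinite.toFinset) =
        (dat D a).toFinite.toFinset := by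
      refine Finset.eq_of_subset_of_card_le (fun f hf => ?_) ?_
      · obtain ⟨c, hc, hfc⟩ := Finset.mem_biUnion.1 hf
        rw [Set.Finite.mem_toFinset] at hc hfc ⊢
        exact hsub c hc hfc
      · rw [Finset.card_biUnion hdisj, Finset.sum_congr rfl (g := fun _ => (kap D Ω w e0).ncard) fun c hc => by
            rw [Set.Finite.mem_toFinset] at hc
            rw [← Set.ncard_eq_toFinset_card, h.card_kap_eq hB hgen L.hw L.hbad hd ⟨hc.1.1, hc.2⟩],
          Finset.sum_const, smul_eq_mul, ← Set.ncard_eq_toFinset_card, ← Set.ncard_eq_toFinset_card,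
          h.card_dat a x, h.card_dat_eq hB hgen L.hw L.hbad L.ha hx, hκ, hμ, mul_comm]
    have hdmem : d ∈ (dat D a).toFinite.toFinset := by
      rw [Set.Finite.mem_toFinset]
      exact ⟨hdD, hda⟩
    rw [← hall, Finset.mem_biUnion] at hdmem
    obtain ⟨c, hc, hdc⟩ := hdmem
    rw [Set.Finite.mem_toFinset] at hc hdc
    obtain ⟨hodd, ho, -⟩ := hord c hc d hdc
    obtain ⟨i, hi⟩ := IsPGroup.iff_orderOf.1 hS ⟨d * w, mul_mem hdS (hTS L.w_mem)⟩
    rw [Subgroup.orderOf_mk, ho] at hi
    have h1 : orderOf (d * c) = 1 := Nat.eq_one_of_dvd_coprimes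
      (Nat.Coprime.pow_left i (Nat.coprime_two_left.2 hodd)) (Dvd.intro 2 hi) dvd_rfl
    have hdc' : d = c := by
      rw [eq_inv_of_mul_eq_one_left (orderOf_eq_one_iff.1 h1), Invol.inv_self (h.invol c hc.1.1)]
    have hdT : d ∈ tt T := (L.full h).inter hS hTS hdS (by rw [hdc']; exact hc.2.eq)
    exact (L.hE.mem d).2 (Or.inr ⟨hdD, hdT⟩)
  · -- one orbit
    left
    have hge : q ≤ nc - ι := Nat.le_of_dvd h0 hdiv
    have hι1 : ι = 1 := by have := hιodd.pos; omega
    have hnc1 : nc = q + 1 := by omega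
    rw [hι1, hnc1, one_mul] at hmoved
    have hM' : M = (q - 1) * q := by
      refine Nat.eq_of_mul_eq_mul_right (Nat.mul_pos (Nat.succ_pos q) hkodd.pos) ?_
      rw [hmoved, Nat.succ_eq_add_one]; ring
    have hcard : Nat.card Ω = q * q + 1 := by
      rw [hn, hM']
      obtain ⟨p, hp⟩ : ∃ p, q = p + 1 := ⟨q - 1, by omega⟩
      rw [hp, Nat.add_sub_cancel]
      ring
    refine ⟨hcard, fun y z hy hz => ?_⟩
    have hdvd' := hdvd y hy
    rw [L.hf, Nat.add_sub_cancel, ← hq] at hdvd'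
    have hsub : orbit (stabilizer G a) y ⊆ ({a}ᶜ : Set Ω) := by
      rintro _ ⟨g, rfl⟩ (hga : (g : G) • y = a)
      exact hy (MulAction.injective (g : G) (hga.trans (mem_stabilizer_iff.1 g.2).symm))
    have hfull := Set.eq_of_subset_of_ncard_le hsub (by
      rw [Set.ncard_compl, Set.ncard_singleton, hcard, Nat.add_sub_cancel]
      exact Nat.le_of_dvd ((Set.ncard_pos (Set.toFinite _)).2 ⟨y, mem_orbit_self y⟩) hdvd') (Set.toFinite _)
    obtain ⟨g, hg⟩ := (hfull.symm ▸ (show z ∈ ({a}ᶜ : Set Ω) from hz) : z ∈ orbit (stabilizer G a) y)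
    exact ⟨g, mem_stabilizer_iff.1 g.2, hg⟩

end LineCfg

end Cfsg.Agent.GoodInvol
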