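import Cfsg.Agent.Lib.GoodInvol.CaseBL2.Coord
import Cfsg.Agent.Lib.RankOne.FieldMaps

/-!
# The Sylow subgroup of the point stabiliser in the centraliser

`T` is `E` times its stabiliser of a second fixed point, which is cyclic, generated by `g` with `g ^ 2 ^ j = w`,
and `g ^ m` centralises `E` exactly when `2 ^ j` divides `m`.
-/

set_option autoImplicit false
set_option linter.style.haveILetI false
set_option linter.unusedSectionVars false

namespace Cfsg.Agent.GoodInvol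

open Subgroup MulAction

universe u

variable {G : Type u} [Group G] [Finite G] {Ω : Type u} [MulAction G Ω] [Finite Ω] [FaithfulSMul G Ω] {D : Set G}

namespace LineCoord

variable {w : G} {E : Subgroup G} (Cd : LineCoord w E)

theorem φ_zero : (Cd.φ 0 : G) = 1 := by
  have h1 := congrArg Subtype.val (Cd.φ_add 0 0)
  rw [add_zero, Subgroup.coe_mul] at h1
  exact left_eq_mul.1 h1

theorem φ_inj {x y : Cd.F} (e : (Cd.φ x : G) = Cd.φ y) : x = y := Cd.φ.injective (Subtype.ext e)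

theorem card : Fintype.card Cd.F = Nat.card E := by
  rw [← Nat.card_eq_fintype_card]; exact Nat.card_congr Cd.φ

/-- Conjugation by `g` on the coordinates. -/
noncomputable def mv (g : G) (hg : ∀ e ∈ E, g * e * g⁻¹ ∈ E) (x : Cd.F) : Cd.F :=
  Cd.φ.symm ⟨g * (Cd.φ x : G) * g⁻¹, hg _ (Cd.φ x).2⟩

theorem φ_mv (g : G) (hg : ∀ e ∈ E, g * e * g⁻¹ ∈ E) (x : Cd.F) :
    (Cd.φ (Cd.mv g hg x) : G) = g * (Cd.φ x : G) * g⁻¹ := by rw [mv, Equiv.apply_symm_apply]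

theorem mv_one_ne {g : G} (hg : ∀ e ∈ E, g * e * g⁻¹ ∈ E) : Cd.mv g hg 1 ≠ 0 := fun e => by
  have h1 := Cd.φ_mv g hg 1
  rw [e, Cd.φ_zero, eq_comm, conj_eq_one_iff, ← Cd.φ_zero] at h1
  exact one_ne_zero (Cd.φ_inj h1)

theorem mv_add (g : G) (hg : ∀ e ∈ E, g * e * g⁻¹ ∈ E) (x y : Cd.F) :
    Cd.mv g hg (x + y) = Cd.mv g hg x + Cd.mv g hg y := Cd.φ_inj (by
  rw [Cd.φ_add, Subgroup.coe_mul, Cd.φ_mv, Cd.φ_mv, Cd.φ_mv, Cd.φ_add, Subgroup.coe_mul]
  group)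

theorem mv_bij (g : G) (hg : ∀ e ∈ E, g * e * g⁻¹ ∈ E) : Function.Bijective (Cd.mv g hg) := by
  refine Finite.injective_iff_bijective.1 fun x y e => Cd.φ_inj ?_
  have h1 := Cd.φ_mv g hg x
  rw [e, Cd.φ_mv] at h1
  exact (mul_left_cancel (mul_right_cancel h1)).symm

theorem mv_mul_scalar (g : G) (hgw : Commute g w) (hg : ∀ e ∈ E, g * e * g⁻¹ ∈ E) (c x : Cd.F) :
    Cd.mv g hg (c * x) * Cd.mv g hg 1 = Cd.mv g hg c * Cd.mv g hg x := by
  obtain ⟨c2, hc2⟩ := Cd.semi g hgw hg c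
  have key : ∀ z, Cd.mv g hg (c * z) = c2 * Cd.mv g hg z := fun z =>
    Cd.φ_inj (by rw [Cd.φ_mv, hc2 z (Cd.mv g hg z) (Cd.φ_mv g hg z).symm])
  have h1 := key 1
  rw [mul_one] at h1
  rw [key x, h1]
  ring

/-- The automorphism of a semilinear map. -/
noncomputable def aut (g : G) (hgw : Commute g w) (hg : ∀ e ∈ E, g * e * g⁻¹ ∈ E) : Cd.F ≃+* Cd.F where
  toEquiv := (Equiv.ofBijective _ (Cd.mv_bij g hg)).trans (Equiv.divRight₀ _ (Cd.mv_one_ne hg))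
  map_mul' x y := by
    show Cd.mv g hg (x * y) / Cd.mv g hg 1 = Cd.mv g hg x / Cd.mv g hg 1 * (Cd.mv g hg y / Cd.mv g hg 1)
    rw [div_mul_div_comm, ← Cd.mv_mul_scalar g hgw hg, mul_div_mul_right _ _ (Cd.mv_one_ne hg)]
  map_add' x y := by
    show Cd.mv g hg (x + y) / Cd.mv g hg 1 = Cd.mv g hg x / Cd.mv g hg 1 + Cd.mv g hg y / Cd.mv g hg 1
    rw [Cd.mv_add, add_div]

theorem mv_eq_aut (g : G) (hgw : Commute g w) (hg : ∀ e ∈ E, g * e * g⁻¹ ∈ E) (x : Cd.F) :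
    Cd.mv g hg x = Cd.mv g hg 1 * Cd.aut g hgw hg x := (mul_div_cancel₀ _ (Cd.mv_one_ne hg)).symm

/-- A 2-element inducing a scalar centralises `E`. -/
theorem commute_of_aut {g : G} (hgw : Commute g w) (hg : ∀ e ∈ E, g * e * g⁻¹ ∈ E) {n : ℕ}
    (hn : orderOf g = 2 ^ n) (haut : Cd.aut g hgw hg = 1) : ∀ e ∈ E, Commute g e := by
  set c := Cd.mv g hg 1
  have hx : ∀ x, g * (Cd.φ x : G) * g⁻¹ = Cd.φ (c * x) := fun x => by
    rw [← Cd.φ_mv g hg x, Cd.mv_eq_aut g hgw hg x, haut]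
    rfl
  have hm : ∀ (m : ℕ) (x : Cd.F), g ^ m * (Cd.φ x : G) * (g ^ m)⁻¹ = Cd.φ (c ^ m * x) := by
    intro m
    induction m with
    | zero => intro x; simp
    | succ m ih =>
      intro x
      rw [pow_succ', show g * g ^ m * (Cd.φ x : G) * (g * g ^ m)⁻¹ = g * (g ^ m * (Cd.φ x : G) * (g ^ m)⁻¹) * g⁻¹
        by group, ih, hx, ← mul_assoc, ← pow_succ']
  have h1 := hm (2 ^ n) 1
  rw [← hn, pow_orderOf_eq_one, one_mul, inv_one, mul_one, mul_one, hn] at h1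
  have hc1 : c = 1 := by
    have h2 : (c - 1) ^ 2 ^ n = 0 := by rw [sub_pow_char_pow, one_pow, ← Cd.φ_inj h1, sub_self]
    exact sub_eq_zero.1 (pow_eq_zero_iff (by positivity) |>.1 h2)
  intro e he
  obtain ⟨x, hx'⟩ := Cd.φ.surjective ⟨e, he⟩
  have h3 := hx x
  rw [hc1, one_mul, hx'] at h3
  exact mul_inv_eq_iff_eq_mul.1 h3

end LineCoord

namespace LineCfg

variable {w : G} {a : Ω} {T : Sylow 2 (ptC w a)} {E : Subgroup G} (L : LineCfg D w a T E)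
include L

omit L in
theorem tt_ord {g : G} (hg : g ∈ tt T) : ∃ n : ℕ, orderOf g = 2 ^ n := by
  haveI : Fact (Nat.Prime 2) := ⟨Nat.prime_two⟩
  obtain ⟨n, hn⟩ := IsPGroup.iff_orderOf.1 (tt_two (T := T)) ⟨g, hg⟩
  exact ⟨n, by rw [← hn, Subgroup.orderOf_mk]⟩

/-- The stabiliser of a second point in `T` is cyclic over `⟨w⟩`. -/
theorem exists_gen (h : Crit D Ω) (hB : Below.{u} (Nat.card G)) (hgen : closure D = ⊤) {x : Ω}
    (hx : w • x = x) (hxa : x ≠ a) :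
    ∃ (g : G) (j : ℕ), g ∈ tt T ∧ g • x = x ∧ g ^ 2 ^ j = w ∧ (∀ p ∈ tt T, p • x = x → p ∈ zpowers g) ∧
      (∀ m : ℕ, (∀ e ∈ E, Commute (g ^ m) e) ↔ 2 ^ j ∣ m) ∧ (j ≠ 0 → Nat.card E ≠ 8) := by
  classical
  haveI : Fact (Nat.Prime 2) := ⟨Nat.prime_two⟩
  obtain ⟨Cd⟩ := L.exists_coord h hB hgen
  set P : Subgroup G := tt T ⊓ stabilizer G x with hP
  have hPw : ∀ p : P, Commute (p : G) w := fun p => (mem_ptC.1 (tt_le p.2.1)).1
  have hPE : ∀ p : P, ∀ e ∈ E, (p : G) * e * (p : G)⁻¹ ∈ E := fun p => L.hE.norm p p.2.1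
  let ψ : P →* (Cd.F ≃+* Cd.F) := MonoidHom.mk' (fun p => Cd.aut p (hPw p) (hPE p)) fun p q => by
    refine RingEquiv.ext fun y => ?_
    have hc : ∀ z, Cd.mv (p * q : P) (hPE (p * q)) z = Cd.mv p (hPE p) (Cd.mv q (hPE q) z) := fun z =>
      Cd.φ_inj (by rw [Cd.φ_mv, Cd.φ_mv, Cd.φ_mv, Subgroup.coe_mul]; group)
    show Cd.mv (p * q : P) (hPE (p * q)) y / Cd.mv (p * q : P) (hPE (p * q)) 1 = Cd.aut p (hPw p) (hPE p) (Cd.aut q (hPw q) (hPE q) y)
    rw [hc, hc, Cd.mv_eq_aut p (hPw p), Cd.mv_eq_aut p (hPw p) (hPE p) (Cd.mv q (hPE q) 1),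
      mul_div_mul_left _ _ (Cd.mv_one_ne _), ← map_div₀]
    rfl
  have hker : ∀ p : P, ψ p = 1 → (p : G) = 1 ∨ (p : G) = w := by
    intro p hp
    obtain ⟨n, hn⟩ := tt_ord p.2.1
    have hc := Cd.commute_of_aut (hPw p) (hPE p) hn hp
    have hpx : (p : G) • x = x := p.2.2
    rcases L.tt_cent h p.2.1 hc with h1 | h1
    · exact Or.inl (L.free h h1 hxa hpx)
    · refine Or.inr ?_
      have h2 := L.free h h1 hxa (by rw [mul_smul, hpx, hx])
      exact (eq_inv_of_mul_eq_one_right h2).trans (Invol.inv_self L.hw)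
  have hwP : w ∈ P := ⟨L.w_mem, hx⟩
  haveI := RankOne.isCyclic_aut (F := Cd.F)
  obtain ⟨⟨_, g0, rfl⟩, hg0⟩ := IsCyclic.exists_generator (α := ψ.range)
  have hgenP : ∀ p : P, ∃ i : ℤ, (p : G) = (g0 : G) ^ i ∨ (p : G) = w * (g0 : G) ^ i := fun p => by
    obtain ⟨i, hi⟩ := mem_zpowers_iff.1 (hg0 ⟨ψ p, p, rfl⟩)
    have hi' : ψ (g0 ^ i) = ψ p := by
      rw [map_zpow]
      exact congrArg Subtype.val hi
    refine ⟨i, (hker (p * (g0 ^ i)⁻¹) (by rw [map_mul, map_inv, hi', mul_inv_cancel])).imp ?_ ?_⟩ <;>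
      intro h1 <;> simp only [Subgroup.coe_mul, InvMemClass.coe_inv, SubgroupClass.coe_zpow] at h1
    · exact mul_inv_eq_one.1 h1
    · exact mul_inv_eq_iff_eq_mul.1 h1
  obtain ⟨n, hn⟩ := tt_ord g0.2.1
  -- a generator reaching `w`
  obtain ⟨g, hgT, hgx, j, hord, hgw2, hPg⟩ : ∃ g : G, g ∈ tt T ∧ g • x = x ∧ ∃ j : ℕ, orderOf g = 2 ^ (j + 1) ∧
      g ^ 2 ^ j = w ∧ ∀ p ∈ tt T, p • x = x → p ∈ zpowers g := by
    rcases n with _ | n
    · rw [pow_zero, orderOf_eq_one_iff] at hn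
      refine ⟨w, L.w_mem, hx, 0, by rw [L.hw]; rfl, pow_one w, fun p hpT hpx => ?_⟩
      obtain ⟨i, hi⟩ := hgenP ⟨p, hpT, hpx⟩
      simp only [hn, one_zpow, mul_one] at hi
      rcases hi with rfl | rfl
      exacts [one_mem _, mem_zpowers _]
    · have hgw : (g0 : G) ^ 2 ^ n = w := by
        refine L.hcomp _ ?_ ((hPw g0).pow_left _) ?_ ⟨x, hxa, hx, ?_⟩
        · rw [orderOf_pow' _ (by positivity), hn, Nat.gcd_eq_right (pow_dvd_pow 2 (Nat.le_succ n)), pow_succ,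
            Nat.mul_div_cancel_left _ (by positivity)]
        · exact (mem_ptC.1 (tt_le (pow_mem g0.2.1 _))).2
        · exact mem_stabilizer_iff.1 (pow_mem g0.2.2 _)
      refine ⟨g0, g0.2.1, g0.2.2, n, hn, hgw, fun p hpT hpx => ?_⟩
      obtain ⟨i, hi⟩ := hgenP ⟨p, hpT, hpx⟩
      rcases hi with h1 | h1
      · exact ⟨i, h1.symm⟩
      · refine ⟨(2 ^ n : ℕ) + i, ?_⟩
        show (g0 : G) ^ (((2 ^ n : ℕ) : ℤ) + i) = p
        rw [zpow_add, zpow_natCast, hgw]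
        exact h1.symm
  have hgP : g ∈ P := ⟨hgT, hgx⟩
  have hgcw := (mem_ptC.1 (tt_le hgT)).1
  refine ⟨g, j, hgT, hgx, hgw2, hPg, fun m => ⟨fun hm => ?_, fun hm e he => ?_⟩, fun hj h8 => ?_⟩
  · have hmx : (g ^ m) • x = x := mem_stabilizer_iff.1 (pow_mem (show g ∈ stabilizer G x from hgx) m)
    have h1 : g ^ (2 * m) = 1 := by
      rcases L.tt_cent h (pow_mem hgT m) hm with h1 | h1
      · rw [mul_comm, pow_mul, L.free h h1 hxa hmx, one_pow]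
      · rw [mul_comm, pow_mul, eq_inv_of_mul_eq_one_right (L.free h h1 hxa (by rw [mul_smul, hmx, hx])),
          Invol.inv_self L.hw, pow_two, Invol.mul_self L.hw]
    have h2 := orderOf_dvd_of_pow_eq_one h1
    rw [hord, pow_succ'] at h2
    exact Nat.dvd_of_mul_dvd_mul_left two_pos h2
  · obtain ⟨i, rfl⟩ := hm
    rw [pow_mul, hgw2]
    exact (L.eset_commute he).symm.pow_left i
  · have h1 : orderOf (ψ ⟨g, hgP⟩) ∣ 2 ^ (j + 1) := orderOf_dvd_of_pow_eq_one (by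
      rw [← map_pow, show (⟨g, hgP⟩ : P) ^ 2 ^ (j + 1) = 1 from Subtype.ext (by
        rw [SubgroupClass.coe_pow, ← hord]; exact pow_orderOf_eq_one g), map_one])
    have h3 : Nat.card (Cd.F ≃+* Cd.F) = 3 := by
      refine Nat.pow_right_injective le_rfl ?_
      show 2 ^ Nat.card (Cd.F ≃+* Cd.F) = 2 ^ 3
      rw [← RankOne.FieldMaps.card_aut, Cd.card, h8]
    have h2 : ψ ⟨g, hgP⟩ = 1 := orderOf_eq_one_iff.1 (Nat.eq_one_of_dvd_coprimes (a := 2 ^ (j + 1)) (b := 3)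
      (Nat.Coprime.pow_left _ (by norm_num)) h1 (h3 ▸ orderOf_dvd_natCard _))
    rcases hker _ h2 with h4 | h4
    · rw [show g = 1 from h4, orderOf_one] at hord
      exact absurd hord (by have := Nat.one_lt_two_pow (Nat.succ_ne_zero j); omega)
    · rw [show g = w from h4, L.hw] at hord
      have := Nat.pow_right_injective le_rfl (show 2 ^ 1 = 2 ^ (j + 1) from hord)
      omega

/-- `T` is `E` times the stabiliser of a second point. -/
theorem exists_eset_mul (h : Crit D Ω) {x : Ω} (hx : w • x = x) (hxa : x ≠ a) {t : G} (ht : t ∈ tt T) :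
    ∃ e ∈ E, (e * t) • x = x := by
  obtain ⟨htw, hta⟩ := mem_ptC.1 (tt_le ht)
  obtain ⟨e, he, hex⟩ := L.reg h (L.smul_fix htw hx)
    (fun e1 => hxa (MulAction.injective t (e1.trans hta.symm))) hx hxa
  exact ⟨e, he, by rw [mul_smul, hex]⟩

end LineCfg

end Cfsg.Agent.GoodInvol
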