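import Cfsg.Agent.Lib.GoodInvol.CaseBL2.Frame
import Cfsg.Agent.Lib.GoodInvol.CaseBL2.Affine

/-!
# A Sylow subgroup of the whole group

A Sylow 2-subgroup containing `T` normalises `E`, acts on it as `T` does, and every conjugate of `w` in it
centralises `E`.
-/

set_option autoImplicit false
set_option linter.style.haveILetI false
set_option linter.unusedSectionVars false

namespace Cfsg.Agent.GoodInvol

open Subgroup MulAction

universe u

variable {G : Type u} [Group G] [Finite G] {Ω : Type u} [MulAction G Ω] [Finite Ω] [FaithfulSMul G Ω] {D : Set G}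

namespace LineCfg

variable {w : G} {a : Ω} {T : Sylow 2 (ptC w a)} {E : Subgroup G} (L : LineCfg D w a T E)
include L

/-- A 2-group containing `T` and fixing `a` is small. -/
theorem card_bound (h : Crit D Ω) {P : Subgroup G} (hP : IsPGroup 2 P) (hTP : tt T ≤ P)
    (hPa : ∀ p ∈ P, p • a = a) : Nat.card P * Nat.card E ≤ (Nat.card Ω - 1) * Nat.card (tt T) := by
  classical
  haveI : Fact (Nat.Prime 2) := ⟨Nat.prime_two⟩
  obtain ⟨x, hx, hxa⟩ := L.exists_second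
  set P' := P ⊓ stabilizer G x with hP'
  have hwP' : w ∈ P' := ⟨hTP L.w_mem, hx⟩
  have hP'2 : IsPGroup 2 P' := hP.to_le inf_le_left
  haveI : Nontrivial P' := (nontrivial_iff_ne_bot _).2 fun e =>
    Invol.ne_one L.hw (mem_bot.1 (e ▸ hwP'))
  haveI := hP'2.center_nontrivial
  obtain ⟨c, hc⟩ := exists_ne (1 : center P')
  obtain ⟨i, hi⟩ := IsPGroup.iff_orderOf.1 hP'2 (c : P')
  rcases i with _ | i
  · rw [pow_zero, orderOf_eq_one_iff] at hi
    exact absurd (Subtype.ext hi) hc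
  set v : P' := (c : P') ^ (2 ^ i) with hv
  have hv2 : orderOf (v : G) = 2 := by
    rw [Subgroup.orderOf_coe, hv, orderOf_pow' _ (by positivity), hi,
      Nat.gcd_eq_right (pow_dvd_pow 2 (Nat.le_succ i)), pow_succ, Nat.mul_div_cancel_left _ (by positivity)]
  have hvc : ∀ g ∈ P', Commute g (v : G) := fun g hg =>
    congrArg Subtype.val (mem_center_iff.1 (pow_mem c.2 (2 ^ i)) ⟨g, hg⟩)
  have hvw : (v : G) = w := L.hcomp _ hv2 (hvc w hwP').symm (hPa _ v.2.1) ⟨x, hxa, hx, v.2.2⟩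
  have hP'T : P' ≤ tt T ⊓ stabilizer G x := fun g hg =>
    ⟨(L.full h).inter hP hTP hg.1 (hvw ▸ hvc g hg).eq, hg.2⟩
  -- the orbit of `x`
  have hor : ∀ Q : Subgroup G, (orbit Q x).ncard * Nat.card (Q ⊓ stabilizer G x : Subgroup G) = Nat.card Q := by
    intro Q
    have hst : stabilizer Q x = (Q ⊓ stabilizer G x).subgroupOf Q := by
      ext g
      simp [mem_stabilizer_iff, mem_subgroupOf, Subgroup.smul_def]
    have h1 := Nat.card_congr (MulAction.orbitProdStabilizerEquivGroup Q x)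
    rw [Nat.card_prod, Nat.card_coe_set_eq, hst,
      Nat.card_congr (Subgroup.subgroupOfEquivOfLe (inf_le_left : Q ⊓ stabilizer G x ≤ Q)).toEquiv] at h1
    exact h1
  have hTcard : Nat.card E * Nat.card (tt T ⊓ stabilizer G x : Subgroup G) ≤ Nat.card (tt T) := by
    rw [← hor (tt T)]
    refine Nat.mul_le_mul_right _ ?_
    have hsub : fixSet Ω w \ {a} ⊆ orbit (tt T) x := by
      rintro z ⟨hz, hza⟩
      obtain ⟨e, he, hez⟩ := L.reg h hx hxa hz hza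
      exact ⟨⟨e, L.hE.le he⟩, hez⟩
    refine le_trans (le_of_eq ?_) (Set.ncard_le_ncard hsub (Set.toFinite _))
    rw [Set.ncard_sdiff_singleton_of_mem (show a ∈ fixSet Ω w from L.ha), L.hf, Nat.add_sub_cancel]
  have hPcard : Nat.card P ≤ (Nat.card Ω - 1) * Nat.card (tt T ⊓ stabilizer G x : Subgroup G) := by
    rw [← hor P]
    refine Nat.mul_le_mul ?_ (Nat.le_of_dvd Nat.card_pos (card_dvd_of_le hP'T))
    have hsub : orbit P x ⊆ ({a}ᶜ : Set Ω) := by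
      rintro _ ⟨g, rfl⟩ (hga : (g : G) • x = a)
      exact hxa (MulAction.injective (g : G) (hga.trans (hPa g g.2).symm))
    refine le_trans (Set.ncard_le_ncard hsub (Set.toFinite _)) (le_of_eq ?_)
    rw [Set.ncard_compl, Set.ncard_singleton]
  calc Nat.card P * Nat.card E
      ≤ (Nat.card Ω - 1) * Nat.card (tt T ⊓ stabilizer G x : Subgroup G) * Nat.card E := Nat.mul_le_mul_right _ hPcard
    _ = (Nat.card Ω - 1) * (Nat.card E * Nat.card (tt T ⊓ stabilizer G x : Subgroup G)) := by ring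
    _ ≤ _ := Nat.mul_le_mul_left _ hTcard

/-- A Sylow subgroup containing `T` fixes `a`. -/
theorem sylow_fix (h : Crit D Ω) (S : Sylow 2 G) (hTS : tt T ≤ (S : Subgroup G)) :
    ∀ s ∈ (S : Subgroup G), s • a = a := by
  haveI : Fact (Nat.Prime 2) := ⟨Nat.prime_two⟩
  haveI : Nonempty Ω := ⟨a⟩
  obtain ⟨b, hb⟩ := h.exists_fix_of_pGroup S.2
  obtain ⟨e, he, -, -, he1, -, -⟩ := L.hE.two
  have heD := (((L.hE.mem e).1 he).resolve_left he1).1
  have : b = a := h.unique e heD b a (hb e (hTS (L.hE.le he))) (L.eset_fix he)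
  exact fun s hs => this ▸ hb s hs

variable {S1 : Sylow 2 (nn w a E)}

theorem sg_le_hgrp : sg S1 ≤ hgrp S1 := by
  intro s hs
  refine ⟨⟨(sg_le hs).2, mem_normalizer_iff.2 fun z => ((sg_le hs).1.1 z).symm⟩, ?_⟩
  refine Subgroup.mem_normalizer_fintype fun z hz => ⟨(sg S1).mul_mem ((sg S1).mul_mem hs hz.1) ((sg S1).inv_mem hs), mem_cent_E.2 fun f hf => ?_⟩
  have hf' : s⁻¹ * f * s ∈ E := ((sg_le hs).1.1 _).1 (by rwa [show s * (s⁻¹ * f * s) * s⁻¹ = f by group])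
  show s * z * s⁻¹ * f = f * (s * z * s⁻¹)
  calc s * z * s⁻¹ * f = s * (z * (s⁻¹ * f * s)) * s⁻¹ := by group
    _ = s * ((s⁻¹ * f * s) * z) * s⁻¹ := by rw [(x2_cent hz _ hf').eq]
    _ = _ := by group

theorem twin_conj {g y : G} (hg : g ∈ hgrp S1) (hy : IsTwin w a E y) : IsTwin w a E (g * y * g⁻¹) := by
  obtain ⟨c, hc⟩ := hy.conj
  refine ⟨⟨g * c, by rw [← hc]; group⟩, by
    rw [mul_smul, mul_smul, inv_smul_eq_iff.2 (hgrp_fix hg).symm, hy.fix, hgrp_fix hg], fun f hf => ?_⟩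
  have hf' : g⁻¹ * f * g ∈ E := by
    have := hgrp_E (inv_mem hg) hf
    rwa [inv_inv] at this
  show g * y * g⁻¹ * f = f * (g * y * g⁻¹)
  calc g * y * g⁻¹ * f = g * (y * (g⁻¹ * f * g)) * g⁻¹ := by group
    _ = g * ((g⁻¹ * f * g) * y) * g⁻¹ := by rw [(hy.cent _ hf').eq]
    _ = _ := by group

variable (h : Crit D Ω) (hB : Below.{u} (Nat.card G)) (hgen : closure D = ⊤)
include h hB hgen

/-- An involution normalising `E` and commuting with a twin centralises `E`. -/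
theorem no_outer_twin {v y : G} (hv : orderOf v = 2) (hy : IsTwin w a E y) (hvy : Commute v y)
    (hvE : ∀ e ∈ E, v * e * v⁻¹ ∈ E) : ∀ e ∈ E, Commute v e := by
  obtain ⟨n, hn, hna, hny⟩ := L.exists_norm h hy
  set v' := n⁻¹ * v * n with hv'
  have hv'w : Commute v' w := by
    show n⁻¹ * v * n * w = w * (n⁻¹ * v * n)
    calc n⁻¹ * v * n * w = n⁻¹ * (v * (n * w * n⁻¹)) * n := by group
      _ = n⁻¹ * ((n * w * n⁻¹) * v) * n := by rw [hny, hvy.eq]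
      _ = _ := by group
  have hv'E : ∀ e ∈ E, v' * e * v'⁻¹ ∈ E := fun e he => (hn _).1 (by
    rw [hv', show n * (n⁻¹ * v * n * e * (n⁻¹ * v * n)⁻¹) * n⁻¹ = v * (n * e * n⁻¹) * v⁻¹ by group]
    exact hvE _ ((hn e).2 he))
  have hord : orderOf v' = 2 := by
    rw [hv', ← hv, ← Invol.order_conj n⁻¹ v, inv_inv]
  have hall := L.no_outer h hB hgen hord hv'w hv'E
  intro e he
  have he' : n⁻¹ * e * n ∈ E := (hn _).1 (by rwa [show n * (n⁻¹ * e * n) * n⁻¹ = e by group])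
  show v * e = e * v
  calc v * e = n * (v' * (n⁻¹ * e * n)) * n⁻¹ := by rw [hv']; group
    _ = n * ((n⁻¹ * e * n) * v') * n⁻¹ := by rw [(hall _ he').eq]
    _ = _ := by rw [hv']; group

/-- An element of `E` fixed by an involution acting as one of `T` is `b * b'`. -/
theorem halve {v : G} (hv : orderOf v = 2) (hvT : ∃ t ∈ tt T, ∀ e ∈ E, v * e * v⁻¹ = t * e * t⁻¹)
    (hne : ¬ ∀ e ∈ E, Commute v e) {d : G} (hd : d ∈ E) (hdv : v * d * v⁻¹ = d) :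
    ∃ b ∈ E, d = b * (v * b * v⁻¹) := by
  obtain ⟨t, ht, hact⟩ := hvT
  have htE := L.hE.norm t ht
  obtain ⟨b, hb, hdb⟩ := L.fixed_eq h hB hgen (mem_ptC.1 (tt_le ht)).1 htE (fun e he => by
      rw [← hact _ (htE e he), ← hact e he, show v * (v * e * v⁻¹) * v⁻¹ = (v * v) * e * (v * v)⁻¹ by group,
        Invol.mul_self hv]
      group)
    (fun hc => hne fun e he => mul_inv_eq_iff_eq_mul.1 (by rw [hact e he, (hc e he).eq, mul_inv_cancel_right]))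
    hd (by rw [← hact d hd, hdv])
  exact ⟨b, hb, by rw [hact b hb, ← hdb]⟩

variable (h8 : Nat.card E ≠ 8) (hT1 : tt T ≤ sg S1)
include h8 hT1

theorem card_sg : Nat.card E * Nat.card (tt T) ≤ Nat.card (sg S1) := by
  rw [← SixInv.orb_card (sg S1) w]
  refine Nat.mul_le_mul ?_ (Nat.le_of_dvd Nat.card_pos (card_dvd_of_le fun t ht =>
    ⟨hT1 ht, mem_centralizer_singleton_iff.2 (mem_ptC.1 (tt_le ht)).1.eq⟩))
  have hsub : (fun e => w * e) '' (E : Set G) ⊆ SixInv.orb (sg S1) w := by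
    rintro _ ⟨e, he, rfl⟩
    obtain ⟨x, hx, hxw⟩ := L.trans_x2 hT1 h hB hgen h8 he
    exact ⟨x, hx.1, hxw⟩
  refine le_trans (le_of_eq ?_) (Set.ncard_le_ncard hsub (Set.toFinite _))
  rw [Set.ncard_image_of_injective _ (mul_right_injective w), ← Nat.card_coe_set_eq]
  rfl

theorem sg_inner {v : G} (hv : v ∈ sg S1) (hc : ∃ c : G, c * w * c⁻¹ = v) : ∀ e ∈ E, Commute v e := by
  obtain ⟨c, hc⟩ := hc
  have hv2 : orderOf v = 2 := by rw [← hc, Invol.order_conj, L.hw]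
  by_contra hne
  have hvT : ∃ t ∈ tt T, ∀ e ∈ E, v * e * v⁻¹ = t * e * t⁻¹ := by
    obtain ⟨x, hx, hxv⟩ := L.sg_split hT1 h hB hgen h8 hv
    refine ⟨_, hxv, fun e he => ?_⟩
    rw [show x⁻¹ * v * e * (x⁻¹ * v)⁻¹ = x⁻¹ * (v * e * v⁻¹) * x by group,
      (x2_cent (inv_mem hx) _ (sg_conj_E hv he)).eq, inv_mul_cancel_right]
  set e0 := w⁻¹ * (v * w * v⁻¹) with he0
  have he0E : e0 ∈ E := ((sg_le hv).1.2 w).2 (by rw [inv_mul_cancel]; exact one_mem E)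
  have hvw : v * w * v⁻¹ = w * e0 := by rw [he0, mul_inv_cancel_left]
  have hvv := Invol.mul_self hv2
  have hfix : v * e0 * v⁻¹ = e0 := by
    have h1 : v * (w * e0) * v⁻¹ = w := by
      rw [← hvw, show v * (v * w * v⁻¹) * v⁻¹ = (v * v) * w * (v * v)⁻¹ by group, hvv]; group
    rw [show v * (w * e0) * v⁻¹ = (v * w * v⁻¹) * (v * e0 * v⁻¹) by group, hvw, mul_assoc, mul_eq_left] at h1
    rw [eq_inv_of_mul_eq_one_right h1, L.eset_inv he0E]
  obtain ⟨b, hb, hdb⟩ := L.halve h hB hgen hv2 hvT hne he0E hfix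
  refine hne (L.no_outer_twin h hB hgen hv2 (L.twin_mul h hB hgen h8 L.self_twin hb) ?_ fun e he => sg_conj_E hv he)
  refine mul_inv_eq_iff_eq_mul.1 ?_
  have hb' := sg_conj_E hv hb
  rw [show v * (w * b) * v⁻¹ = (v * w * v⁻¹) * (v * b * v⁻¹) by group, hvw, hdb, mul_assoc, mul_assoc b,
    L.hE.sq _ hb', mul_one]

/-- A member fixing `a` in a 2-group above `T` being in `E`, the Sylow subgroup of the whole group. -/
theorem exists_sylow_cube (hn : Nat.card Ω = Nat.card E * Nat.card E * Nat.card E + 1)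
    (hmem : ∀ S : Subgroup G, IsPGroup 2 S → tt T ≤ S → ∀ d ∈ S, d ∈ D → d • a = a → d ∈ E)
    {g0 : G} (hg0 : g0 ∈ hgrp S1) (hg01 : psi w (g0 * w * g0⁻¹) ≠ 1) :
    ∃ S : Sylow 2 G, tt T ≤ (S : Subgroup G) ∧
      (∀ s ∈ (S : Subgroup G), ∀ e ∈ E, s * e * s⁻¹ ∈ E) ∧
      (∀ s ∈ (S : Subgroup G), ∃ t ∈ tt T, ∀ e ∈ E, s * e * s⁻¹ = t * e * t⁻¹) ∧
      (∀ s ∈ (S : Subgroup G), (∃ c : G, c * w * c⁻¹ = s) → ∀ e ∈ E, Commute s e) := by
  classical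
  haveI : Fact (Nat.Prime 2) := ⟨Nat.prime_two⟩
  obtain ⟨K, hKN, hKw, hKtr, hKab, hnorm⟩ := h.exists_torus hB hgen L.hw L.hbad L.ha T L.hE L.hf
  have hwx := L.w_x2 hT1
  have htw : ∀ g ∈ hgrp S1, IsTwin w a E (g * w * g⁻¹) ∧ g * w * g⁻¹ ∈ x2 S1 := fun g hg =>
    ⟨L.twin_conj hg L.self_twin, hgrp_x2 hg hwx⟩
  have hpsiw : psi w w = 1 := by rw [psi, mul_inv_cancel_right, Invol.mul_self L.hw]
  set a0 := psi w (g0 * w * g0⁻¹) with ha0
  have ha0E : a0 ∈ E := L.psi_mem (htw g0 hg0).2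
  -- the torus inside `hgrp`
  let K' : Subgroup G :=
    { carrier := {m | m ∈ hgrp S1 ∧ Commute m w ∧ ∃ k ∈ K, ∀ e ∈ E, m * e * m⁻¹ = k * e * k⁻¹}
      one_mem' := ⟨one_mem _, Commute.one_left w, 1, one_mem K, fun e _ => rfl⟩
      mul_mem' := by
        rintro m m' ⟨hm, hmw, k, hk, hke⟩ ⟨hm', hmw', k', hk', hke'⟩
        refine ⟨mul_mem hm hm', hmw.mul_left hmw', k * k', mul_mem hk hk', fun e he => ?_⟩
        rw [show m * m' * e * (m * m')⁻¹ = m * (m' * e * m'⁻¹) * m⁻¹ by group, hke _ (hgrp_E hm' he), hke' e he]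
        group
      inv_mem' := by
        rintro m ⟨hm, hmw, k, hk, hke⟩
        refine ⟨inv_mem hm, hmw.inv_left, k⁻¹, inv_mem hk, fun e he => ?_⟩
        have h1 := hke _ (hgrp_E (inv_mem hm) he)
        rw [inv_inv] at h1
        rw [show m * (m⁻¹ * e * m) * m⁻¹ = e by group] at h1
        conv_rhs => rw [h1]
        group }
  have hlift : ∀ k ∈ K, ∃ m ∈ K', ∀ e ∈ E, m * e * m⁻¹ = k * e * k⁻¹ := fun k hk => by
    obtain ⟨m, hm, hmw, hme⟩ := L.frattini hT1 h hB hgen h8 (hKN hk) (hKw k hk)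
    exact ⟨m, ⟨hm, hmw, k, hk, hme⟩, hme⟩
  have hK'tr : ∀ e ∈ E, ∀ f ∈ E, e ≠ 1 → f ≠ 1 → ∃ m ∈ K', m * e * m⁻¹ = f := fun e he f hf he1 hf1 => by
    obtain ⟨k, hk, hkef⟩ := hKtr e he f hf he1 hf1
    obtain ⟨m, hm, hme⟩ := hlift k hk
    exact ⟨m, hm, (hme e he).trans hkef⟩
  have hfull : ∀ e ∈ E, ∃ y ∈ x2 S1, IsTwin w a E y ∧ psi w y = e := fun e he => by
    by_cases he1 : e = 1
    · exact ⟨w, hwx, L.self_twin, by rw [hpsiw, he1]⟩
    obtain ⟨m, ⟨hm, hmw, -⟩, hme⟩ := hK'tr a0 ha0E e he hg01 he1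
    refine ⟨m * (g0 * w * g0⁻¹) * m⁻¹, hgrp_x2 hm (htw g0 hg0).2, L.twin_conj hm (htw g0 hg0).1, ?_⟩
    have hm1 : m * w * m⁻¹ = w := mul_inv_eq_iff_eq_mul.2 hmw.eq
    rw [← hme, ha0, psi, psi]
    conv_rhs => rw [show m * (w * (g0 * w * g0⁻¹ * w * (g0 * w * g0⁻¹)⁻¹)) * m⁻¹ =
      (m * w * m⁻¹) * (m * (g0 * w * g0⁻¹) * m⁻¹ * (m * w * m⁻¹) * (m * (g0 * w * g0⁻¹) * m⁻¹)⁻¹) by group, hm1]
  have hc : ∀ g ∈ hgrp S1, ∀ k ∈ hgrp S1, psi w (g * k * w * (g * k)⁻¹) =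
      psi w (g * w * g⁻¹) * (g * psi w (k * w * k⁻¹) * g⁻¹) := fun g hg k hk => by
    rw [show g * k * w * (g * k)⁻¹ = g * (k * w * k⁻¹) * g⁻¹ by group,
      L.psi_smul h hfull (hgrp_x2 hg (htw k hk).2) (htw g hg).2 (L.twin_conj hg (htw k hk).1) (htw g hg).1
        (htw k hk).1 (htw k hk).2]
    exact (L.hE.comm _ (hgrp_E hg (L.psi_mem (htw k hk).2)) _ (L.psi_mem (htw g hg).2)).eq
  have hfix1 : ∀ k ∈ K', psi w (k * w * k⁻¹) = 1 := fun k hk => by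
    rw [mul_inv_eq_iff_eq_mul.2 hk.2.1.eq, hpsiw]
  obtain ⟨e0, he0, -, -, he01, -, -⟩ := L.hE.two
  have htrans : ∀ e ∈ E, ∃ g ∈ hgrp S1, (∀ x ∈ E, g * x * g⁻¹ = x) ∧ psi w (g * w * g⁻¹) = e := by
    refine (affine_translations L.hE.sq (fun e he f hf => (L.hE.comm e he f hf).eq) ⟨e0, he0, he01⟩
      (fun g hg x hx => hgrp_E hg hx) (fun g => psi w (g * w * g⁻¹)) (fun g hg => L.psi_mem (htw g hg).2) hc
      (fun e he => ?_) (K := K') (fun m hm => hm.1) hfix1 hK'tr ?_ ?_).resolve_right h8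
    · by_cases he1 : e = 1
      · exact ⟨1, one_mem _, by
          show psi w (1 * w * 1⁻¹) = e
          rw [inv_one, one_mul, mul_one, hpsiw, he1]⟩
      obtain ⟨m, hm, hme⟩ := hK'tr a0 ha0E e he hg01 he1
      exact ⟨m * g0, mul_mem hm.1 hg0, by
        show psi w (m * g0 * w * (m * g0)⁻¹) = e
        rw [hc m hm.1 g0 hg0, hfix1 m hm, one_mul, hme]⟩
    · rintro m ⟨hm, -, k, hk, hke⟩ m' ⟨hm', -, l, hl, hle⟩ e he
      have hlE : l * e * l⁻¹ ∈ E := ((hKN hl).1.1 e).2 he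
      have hkE : k * e * k⁻¹ ∈ E := ((hKN hk).1.1 e).2 he
      rw [hle e he, hke _ hlE, hke e he, hle _ hkE]
      exact hKab k hk l hl e he
    · rintro g hg hg1 m ⟨hm, -, k, hk, hke⟩
      have hfib := L.fibre h hwx (htw g hg).2 L.self_twin (htw g hg).1 (by rw [hpsiw]; exact hg1.symm)
      obtain ⟨x, hx, hxw⟩ := L.trans_x2 hT1 h hB hgen h8 hfib
      rw [mul_inv_cancel_left] at hxw
      have hxH : x ∈ hgrp S1 := L.sg_le_hgrp hx.1
      set g' := x⁻¹ * g with hg'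
      have hg'H : g' ∈ hgrp S1 := mul_mem (inv_mem hxH) hg
      have hg'w : Commute g' w := by
        show x⁻¹ * g * w = w * (x⁻¹ * g)
        calc x⁻¹ * g * w = x⁻¹ * (g * w * g⁻¹) * g := by group
          _ = x⁻¹ * (x * w * x⁻¹) * g := by rw [hxw]
          _ = _ := by group
      have hact : ∀ e ∈ E, g' * e * g'⁻¹ = g * e * g⁻¹ := fun e he => by
        rw [hg', show x⁻¹ * g * e * (x⁻¹ * g)⁻¹ = x⁻¹ * (g * e * g⁻¹) * x by group,
          (x2_cent (inv_mem hx) _ (hgrp_E hg he)).eq, inv_mul_cancel_right]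
      obtain ⟨k', hk', hk'e⟩ := hnorm g' ⟨L.mem_cosetNorm hg'w fun e he => hgrp_E hg'H he, hgrp_fix hg'H⟩
        hg'w.eq k hk
      obtain ⟨m', hm', hm'e⟩ := hlift k' hk'
      refine ⟨m', hm', fun e he => ?_⟩
      rw [hke e he, ← hact e he, ← hact _ (((hKN hk).1.1 e).2 he), hk'e e he, hm'e _ (hgrp_E hg'H he)]
  -- the twins in `x2`
  set A : Set G := {y | y ∈ x2 S1 ∧ IsTwin w a E y} with hA
  have hmulE : ∀ y ∈ A, ∀ e ∈ E, y * e ∈ A ∧ psi w (y * e) = psi w y := fun y hy e he =>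
    ⟨⟨mul_mem hy.1 (L.E_x2 hT1 he), L.twin_mul h hB hgen h8 hy.2 he⟩, by
      rw [L.psi_mul hy.1 (L.E_x2 hT1 he), show psi w e = 1 from by
        rw [psi, (L.eset_commute he).eq, mul_inv_cancel_right, Invol.mul_self L.hw], mul_one]⟩
  choose f hf using hfull
  have hAcard : A.ncard = Nat.card E * Nat.card E := by
    rw [← Nat.card_coe_set_eq, ← Nat.card_prod]
    refine (Nat.card_congr (Equiv.ofBijective
      (fun p : E × E => (⟨f p.1 p.1.2 * p.2, (hmulE _ ⟨(hf _ p.1.2).1, (hf _ p.1.2).2.1⟩ _ p.2.2).1⟩ : A))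
      ⟨fun p p' hpp => ?_, fun y => ?_⟩)).symm
    · have h1 : f p.1 p.1.2 * p.2 = f p'.1 p'.1.2 * p'.2 := congrArg Subtype.val hpp
      have h2 := congrArg (psi w) h1
      rw [(hmulE _ ⟨(hf _ p.1.2).1, (hf _ p.1.2).2.1⟩ _ p.2.2).2,
        (hmulE _ ⟨(hf _ p'.1.2).1, (hf _ p'.1.2).2.1⟩ _ p'.2.2).2, (hf _ p.1.2).2.2, (hf _ p'.1.2).2.2] at h2
      have h3 : p.1 = p'.1 := Subtype.ext h2
      refine Prod.ext h3 (Subtype.ext ?_)
      have h4 : f p.1 p.1.2 = f p'.1 p'.1.2 := by congr 1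
      rw [h4] at h1
      exact mul_left_cancel h1
    · obtain ⟨hy1, hy2, hy3⟩ := hf _ (L.psi_mem y.2.1)
      refine ⟨(⟨psi w (y : G), L.psi_mem y.2.1⟩, ⟨_, L.fibre h hy1 y.2.1 hy2 y.2.2 hy3⟩), Subtype.ext ?_⟩
      exact mul_inv_cancel_left _ _
  have horb : SixInv.orb (hgrp S1 ⊓ Subgroup.centralizer (E : Set G)) w = A := by
    ext y
    constructor
    · rintro ⟨g, hg, rfl⟩
      exact ⟨(htw g hg.1).2, (htw g hg.1).1⟩
    · rintro ⟨hy, hyt⟩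
      obtain ⟨g, hg, hgc, hge⟩ := htrans _ (L.psi_mem hy)
      have he' := L.fibre h (htw g hg).2 hy (htw g hg).1 hyt hge
      obtain ⟨x, hx, hxw⟩ := L.trans_x2 hT1 h hB hgen h8 he'
      refine ⟨g * x, ⟨mul_mem hg (L.sg_le_hgrp hx.1), mul_mem (mem_cent_E.2 fun z hz =>
        mul_inv_eq_iff_eq_mul.1 (hgc z hz)) hx.2⟩, ?_⟩
      rw [show g * x * w * (g * x)⁻¹ = g * (x * w * x⁻¹) * g⁻¹ by group, hxw,
        show g * (w * ((g * w * g⁻¹)⁻¹ * y)) * g⁻¹ = (g * w * g⁻¹) * (g * ((g * w * g⁻¹)⁻¹ * y) * g⁻¹) by group,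
        hgc _ he', mul_inv_cancel_left]
  obtain ⟨r, hr, -⟩ := L.card_pow
  obtain ⟨SH, hSH⟩ := ((sg_two (S1 := S1)).comap_subtype :
    IsPGroup 2 ((sg S1).subgroupOf (hgrp S1))).exists_le_sylow
  set P : Subgroup G := (SH : Subgroup (hgrp S1)).map (hgrp S1).subtype with hP
  have hS1P : sg S1 ≤ P := fun s hs => ⟨⟨s, L.sg_le_hgrp hs⟩, hSH hs, rfl⟩
  have hPH : P ≤ hgrp S1 := map_subtype_le _
  have hTP : tt T ≤ P := hT1.trans hS1P
  have hPtr : ∀ y ∈ A, ∃ s ∈ P, (∀ e ∈ E, Commute s e) ∧ s * w * s⁻¹ = y := fun y hy => by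
    obtain ⟨s, hs, hsy⟩ := exists_conj_of_sylow SH (C := Subgroup.centralizer (E : Set G))
      (fun g hg x hx => mem_cent_E.2 fun z hz => by
        have hz' : g⁻¹ * z * g ∈ E := by
          have := hgrp_E (inv_mem hg) hz
          rwa [inv_inv] at this
        show g * x * g⁻¹ * z = z * (g * x * g⁻¹)
        calc g * x * g⁻¹ * z = g * (x * (g⁻¹ * z * g)) * g⁻¹ := by group
          _ = g * ((g⁻¹ * z * g) * x) * g⁻¹ := by rw [(mem_cent_E.1 hx _ hz').eq]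
          _ = _ := by group) horb (r := r + r) (by rw [hAcard, hr, pow_add]) hy
    exact ⟨s, hs.1, mem_cent_E.1 hs.2, hsy⟩
  have hPcard : Nat.card E * Nat.card E * Nat.card (tt T) ≤ Nat.card P := by
    rw [← SixInv.orb_card P w, ← hAcard]
    refine Nat.mul_le_mul (Set.ncard_le_ncard (fun y hy => ?_) (Set.toFinite _)) (Nat.le_of_dvd Nat.card_pos
      (card_dvd_of_le fun t ht => ⟨hTP ht, mem_centralizer_singleton_iff.2 (mem_ptC.1 (tt_le ht)).1.eq⟩))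
    obtain ⟨s, hs, -, hsy⟩ := hPtr y hy
    exact ⟨s, hs, hsy⟩
  obtain ⟨S, hS⟩ := (SH.2.map _ : IsPGroup 2 P).exists_le_sylow
  have hTS : tt T ≤ (S : Subgroup G) := hTP.trans hS
  have hb := L.card_bound h S.2 hTS (L.sylow_fix h S hTS)
  rw [hn, Nat.add_sub_cancel] at hb
  have hSP : (S : Subgroup G) = P := (Subgroup.eq_of_le_of_card_ge hS (by
    refine le_trans ?_ hPcard
    refine Nat.le_of_mul_le_mul_right (le_trans hb (le_of_eq ?_)) (Nat.card_pos (α := E))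
    ring)).symm
  have hact : ∀ s ∈ P, ∃ t ∈ tt T, ∀ e ∈ E, s * e * s⁻¹ = t * e * t⁻¹ := fun s hs => by
    obtain ⟨r', hr', hr'E, hr'w⟩ := hPtr _ ⟨(htw s (hPH hs)).2, (htw s (hPH hs)).1⟩
    refine ⟨r'⁻¹ * s, (L.full h).inter (SH.2.map _) hTP (mul_mem (inv_mem hr') hs) ?_, fun e he => ?_⟩
    · calc r'⁻¹ * s * w = r'⁻¹ * (s * w * s⁻¹) * s := by group
        _ = r'⁻¹ * (r' * w * r'⁻¹) * s := by rw [hr'w]
        _ = _ := by group
    · rw [show r'⁻¹ * s * e * (r'⁻¹ * s)⁻¹ = r'⁻¹ * (s * e * s⁻¹) * r' by group,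
        ((hr'E _ (hgrp_E (hPH hs) he)).inv_left).eq, inv_mul_cancel_right]
  refine ⟨S, hTS, ?_, ?_, ?_⟩
  · rw [hSP]
    exact fun s hs e he => hgrp_E (hPH hs) he
  · rw [hSP]
    exact hact
  rw [hSP]
  rintro v hv ⟨c, hcv⟩
  have hv2 : orderOf v = 2 := by rw [← hcv, Invol.order_conj, L.hw]
  have hvH := hPH hv
  have hvv := Invol.mul_self hv2
  by_contra hne
  have hvT := hact v hv
  set d0 := psi w (v * w * v⁻¹) with hd0
  have hd0E : d0 ∈ E := L.psi_mem (htw v hvH).2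
  have hd0v : v * d0 * v⁻¹ = d0 := by
    have h1 := hc v hvH v hvH
    rw [show v * v * w * (v * v)⁻¹ = w by rw [hvv]; group, hpsiw] at h1
    rw [eq_inv_of_mul_eq_one_right h1.symm, L.eset_inv hd0E]
  obtain ⟨b, hb, hdb⟩ := L.halve h hB hgen hv2 hvT hne hd0E hd0v
  obtain ⟨hy1, hy2, hy3⟩ := hf b hb
  set y := f b hb with hy
  set y' := v * y * v⁻¹ with hy'
  have hb' := hgrp_E hvH hb
  have hpsi' : psi w y' = b := by
    rw [hy', L.psi_smul h (fun e he => ⟨f e he, hf e he⟩) (hgrp_x2 hvH hy1) (htw v hvH).2 (L.twin_conj hvH hy2)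
      (htw v hvH).1 hy2 hy1, hy3, ← hd0, hdb, ← mul_assoc, (L.hE.comm _ hb' _ hb).eq, mul_assoc,
      L.hE.sq _ hb', mul_one]
  set e1 := y⁻¹ * y' with he1
  have he1E : e1 ∈ E := L.fibre h hy1 (hgrp_x2 hvH hy1) hy2 (L.twin_conj hvH hy2) (by rw [hpsi', hy3])
  have he1v : v * e1 * v⁻¹ = e1 := by
    have h1 : v * y' * v⁻¹ = y := by
      rw [hy', show v * (v * y * v⁻¹) * v⁻¹ = (v * v) * y * (v * v)⁻¹ by group, hvv]; group
    calc v * e1 * v⁻¹ = (v * y * v⁻¹)⁻¹ * (v * y' * v⁻¹) := by rw [he1]; group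
      _ = y'⁻¹ * y := by rw [h1]
      _ = e1⁻¹ := by rw [he1]; group
      _ = e1 := L.eset_inv he1E
  obtain ⟨b', hb'E, hdb'⟩ := L.halve h hB hgen hv2 hvT hne he1E he1v
  refine hne (L.no_outer_twin h hB hgen hv2 (L.twin_mul h hB hgen h8 hy2 hb'E) ?_ fun e he => hgrp_E hvH he)
  refine mul_inv_eq_iff_eq_mul.1 ?_
  rw [show v * (y * b') * v⁻¹ = (v * y * v⁻¹) * (v * b' * v⁻¹) by group, ← hy',
    show y' = y * e1 by rw [he1, mul_inv_cancel_left], hdb', mul_assoc, mul_assoc b',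
    L.hE.sq _ (hgrp_E hvH hb'E), mul_one]

omit hT1 in
/-- A Sylow subgroup of the whole group acts on `E` as `T`. -/
theorem exists_sylow (hdvd : ∀ z : Ω, z ≠ a → Nat.card E * ((fixSet Ω w).ncard - 1) ∣ (orbit (stabilizer G a) z).ncard) :
    ∃ S : Sylow 2 G, tt T ≤ (S : Subgroup G) ∧
      (∀ s ∈ (S : Subgroup G), ∀ e ∈ E, s * e * s⁻¹ ∈ E) ∧
      (∀ s ∈ (S : Subgroup G), ∃ t ∈ tt T, ∀ e ∈ E, s * e * s⁻¹ = t * e * t⁻¹) ∧
      (∀ s ∈ (S : Subgroup G), (∃ c : G, c * w * c⁻¹ = s) → ∀ e ∈ E, Commute s e) := by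
  classical
  haveI : Fact (Nat.Prime 2) := ⟨Nat.prime_two⟩
  obtain ⟨S1, hT1⟩ := L.exists_sylow_nn
  obtain ⟨S, hS⟩ := (sg_two (S1 := S1)).exists_le_sylow
  have hTS : tt T ≤ (S : Subgroup G) := hT1.trans hS
  have base : (S : Subgroup G) = sg S1 → ∃ S : Sylow 2 G, tt T ≤ (S : Subgroup G) ∧
      (∀ s ∈ (S : Subgroup G), ∀ e ∈ E, s * e * s⁻¹ ∈ E) ∧
      (∀ s ∈ (S : Subgroup G), ∃ t ∈ tt T, ∀ e ∈ E, s * e * s⁻¹ = t * e * t⁻¹) ∧
      (∀ s ∈ (S : Subgroup G), (∃ c : G, c * w * c⁻¹ = s) → ∀ e ∈ E, Commute s e) := fun heq => by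
    refine ⟨S, hTS, ?_, ?_, ?_⟩ <;> rw [heq]
    · exact fun s hs e he => sg_conj_E hs he
    · intro s hs
      obtain ⟨x, hx, hxs⟩ := L.sg_split hT1 h hB hgen h8 hs
      refine ⟨_, hxs, fun e he => ?_⟩
      rw [show x⁻¹ * s * e * (x⁻¹ * s)⁻¹ = x⁻¹ * (s * e * s⁻¹) * x by group,
        (x2_cent (inv_mem hx) _ (sg_conj_E hs he)).eq, inv_mul_cancel_right]
    · exact fun s hs hc => L.sg_inner h hB hgen h8 hT1 hs hc
  rcases L.params h hB hgen hdvd with ⟨hn, -⟩ | ⟨hn, hmem⟩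
  · refine base (Subgroup.eq_of_le_of_card_ge hS ?_).symm
    have hb := L.card_bound h S.2 hTS (L.sylow_fix h S hTS)
    rw [hn, Nat.add_sub_cancel] at hb
    refine le_trans ?_ (L.card_sg h hB hgen h8 hT1)
    refine Nat.le_of_mul_le_mul_right (le_trans hb (le_of_eq ?_)) (Nat.card_pos (α := E))
    ring
  by_cases heq : (S : Subgroup G) = sg S1
  · exact base heq
  haveI := S.2.isNilpotent
  obtain ⟨g, hgN, hgS1⟩ := SetLike.exists_of_lt (Group.normalizerCondition_of_isNilpotent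
    ((sg S1).subgroupOf (S : Subgroup G)) (lt_top_iff_ne_top.2 fun e => heq (le_antisymm
      (Subgroup.subgroupOf_eq_top.1 e) hS)))
  have hgN' : ∀ y ∈ sg S1, (g : G) * y * (g : G)⁻¹ ∈ sg S1 := fun y hy =>
    (Subgroup.mem_normalizer_iff.1 hgN ⟨y, hS hy⟩).1 hy
  have hga := L.sylow_fix h S hTS g g.2
  have hgE : ∀ e ∈ E, (g : G) * e * (g : G)⁻¹ ∈ E := fun e he => by
    rcases (L.hE.mem e).1 he with h1 | ⟨hD, -⟩
    · rw [h1, mul_one, mul_inv_cancel]; exact one_mem E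
    refine hmem S S.2 hTS _ (mul_mem (mul_mem g.2 (hTS (L.hE.le he))) (inv_mem g.2)) (h.conj g e hD) ?_
    rw [mul_smul, mul_smul, inv_smul_eq_iff.2 hga.symm, L.eset_fix he, hga]
  have hgE' : ∀ x : G, (g : G) * x * (g : G)⁻¹ ∈ E ↔ x ∈ E := fun x => ⟨fun hx => ?_, hgE x⟩
  swap
  · obtain ⟨y, hy⟩ := (Finite.injective_iff_surjective (f := fun e : E => (⟨(g : G) * e * (g : G)⁻¹, hgE e e.2⟩ : E))).1
      (fun a b hab => Subtype.ext (mul_left_cancel (mul_right_cancel (congrArg Subtype.val hab)))) ⟨_, hx⟩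
    have : (y : G) = x := mul_left_cancel (mul_right_cancel (congrArg Subtype.val hy))
    exact this ▸ y.2
  have hgH : (g : G) ∈ hgrp S1 := by
    refine ⟨⟨hga, mem_normalizer_iff.2 fun z => (hgE' z).symm⟩, Subgroup.mem_normalizer_fintype fun z hz => ?_⟩
    refine ⟨hgN' z hz.1, mem_cent_E.2 fun f hf => ?_⟩
    have hf' : (g : G)⁻¹ * f * g ∈ E := (hgE' _).1 (by rwa [show (g : G) * ((g : G)⁻¹ * f * g) * (g : G)⁻¹ = f by group])
    show (g : G) * z * (g : G)⁻¹ * f = f * ((g : G) * z * (g : G)⁻¹)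
    calc (g : G) * z * (g : G)⁻¹ * f = g * (z * ((g : G)⁻¹ * f * g)) * (g : G)⁻¹ := by group
      _ = g * (((g : G)⁻¹ * f * g) * z) * (g : G)⁻¹ := by rw [(x2_cent hz _ hf').eq]
      _ = _ := by group
  refine L.exists_sylow_cube h hB hgen h8 hT1 hn hmem hgH fun h1 => hgS1 ?_
  have hwx := L.w_x2 hT1
  have hfib := L.fibre h hwx (hgrp_x2 hgH hwx) L.self_twin (L.twin_conj hgH L.self_twin) (by
    rw [h1, psi, mul_inv_cancel_right, Invol.mul_self L.hw])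
  have hgnn : (g : G) ∈ nn w a E := ⟨mem_cosetNorm_of_conj hgE' hfib, hga⟩
  have hP : IsPGroup 2 (sg S1 ⊔ zpowers (g : G) : Subgroup G) :=
    S.2.to_le (sup_le hS (zpowers_le.2 g.2))
  have hmax := sg_max hP (sup_le sg_le (zpowers_le.2 hgnn)) le_sup_left
  show (g : G) ∈ sg S1
  rw [← hmax]
  exact mem_sup_right (mem_zpowers _)

end LineCfg

end Cfsg.Agent.GoodInvol
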