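import Cfsg.Agent.Lib.GoodInvol.CaseBL2.Flat
import Cfsg.Agent.Lib.GoodInvol.CaseBL2.SylowOrbit

/-!
# Conjugates of `w` centralising `E`

Such a conjugate at `a` is `n w n⁻¹` with `n` normalising `E`, so it has the properties of `w`: no element
centralising `E` squares to it, two commuting ones differ by an element of `E`; an involutive semilinear map
has every fixed element of the shape `b * b'`.
-/

set_option autoImplicit false
set_option linter.style.haveILetI false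
set_option linter.unusedSectionVars false

namespace Cfsg.Agent.GoodInvol

open Subgroup MulAction

universe u

variable {G : Type u} [Group G] [Finite G] {Ω : Type u} [MulAction G Ω] [Finite Ω] [FaithfulSMul G Ω] {D : Set G}

/-- A conjugate of `w` at `a` centralising `E`. -/
structure IsTwin (w : G) (a : Ω) (E : Subgroup G) (y : G) : Prop where
  conj : ∃ c : G, c * w * c⁻¹ = y
  fix : y • a = a
  cent : ∀ e ∈ E, Commute y e

namespace LineCfg

variable {w : G} {a : Ω} {T : Sylow 2 (ptC w a)} {E : Subgroup G} (L : LineCfg D w a T E)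
include L

theorem two_ord {g : G} (hg : g * g = 1) : ∃ n : ℕ, orderOf g = 2 ^ n := by
  obtain ⟨i, -, hi⟩ := (Nat.dvd_prime_pow Nat.prime_two).1
    (orderOf_dvd_of_pow_eq_one (by rw [pow_one, pow_two, hg] : g ^ 2 ^ 1 = 1))
  exact ⟨i, hi⟩

/-- A 2-element at `a` centralising `w` and `E` is in `⟨w⟩ E`. -/
theorem cent_two (h : Crit D Ω) {g : G} (hg : Commute g w) (hga : g • a = a) (h2 : ∃ n : ℕ, orderOf g = 2 ^ n)
    (hgE : ∀ e ∈ E, Commute g e) : g ∈ E ∨ w * g ∈ E := by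
  obtain ⟨e, he, hact⟩ := L.cent_act h hg hga hgE
  obtain ⟨n, hn⟩ := h2
  have hcomm : Commute e g := (hgE e he).symm
  have hord : (e * g) ^ 2 ^ (n + 1) = 1 := by
    rw [hcomm.mul_pow, pow_succ' 2 n, pow_mul, pow_mul, pow_two e, L.hE.sq e he, one_pow, one_mul,
      ← pow_mul, mul_comm 2, pow_mul, ← hn, pow_orderOf_eq_one, one_pow]
  obtain ⟨i, -, hi⟩ := (Nat.dvd_prime_pow Nat.prime_two).1 (orderOf_dvd_of_pow_eq_one hord)
  rcases L.ker_two ((L.eset_commute he).mul_left hg) (by rw [mul_smul, hga, L.eset_fix he]) ⟨i, hi⟩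
    (fun z hz => by rw [mul_smul, hact z hz, ← mul_smul, L.hE.sq e he, one_smul]) with h1 | h1
  · exact Or.inl (eq_inv_of_mul_eq_one_right h1 ▸ inv_mem he)
  · refine Or.inr ?_
    have h3 : g = e * w := by rw [← h1, ← mul_assoc, L.hE.sq e he, one_mul]
    rw [h3, ← mul_assoc, ← (L.eset_commute he).eq, mul_assoc, Invol.mul_self L.hw, mul_one]
    exact he

theorem self_twin : IsTwin w a E w := ⟨⟨1, by group⟩, L.ha, fun _ he => (L.eset_commute he).symm⟩

theorem twin_order {y : G} (hy : IsTwin w a E y) : orderOf y = 2 := by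
  obtain ⟨c, rfl⟩ := hy.conj
  rw [Invol.order_conj, L.hw]

theorem twin_bad {y : G} (hy : IsTwin w a E y) : ¬ OneFix Ω y := by
  obtain ⟨c, rfl⟩ := hy.conj
  intro hone
  refine L.hbad fun p q hp hq => MulAction.injective c (hone _ _ ?_ ?_) <;>
    rw [mul_smul, mul_smul, inv_smul_smul] <;> simp only [hp, hq]

theorem twin_notMem (h : Crit D Ω) {y : G} (hy : IsTwin w a E y) : y ∉ E := fun he => by
  rcases (L.hE.mem y).1 he with h1 | ⟨hD, -⟩
  · exact Invol.ne_one (L.twin_order hy) h1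
  · exact L.twin_bad hy fun p q hp hq => h.unique y hD p q hp hq

/-- A twin is the image of `w` under an element normalising `E` and fixing `a`. -/
theorem exists_norm (h : Crit D Ω) {y : G} (hy : IsTwin w a E y) :
    ∃ n : G, (∀ x : G, n * x * n⁻¹ ∈ E ↔ x ∈ E) ∧ n • a = a ∧ n * w * n⁻¹ = y := by
  classical
  haveI : Fact (Nat.Prime 2) := ⟨Nat.prime_two⟩
  obtain ⟨c0, hc0⟩ := hy.conj
  have hfix : w • c0⁻¹ • a = c0⁻¹ • a := by
    have h1 := hy.fix
    rw [← hc0, mul_smul, mul_smul] at h1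
    exact eq_inv_smul_iff.2 h1
  obtain ⟨c1, hc1w, hc1a⟩ := h.exists_smul_fix L.hw L.ha hfix
  set c := c0 * c1 with hc
  have hca : c • a = a := by rw [hc, mul_smul, hc1a, smul_inv_smul]
  have hcy : c * w * c⁻¹ = y := by
    rw [hc, show c0 * c1 * w * (c0 * c1)⁻¹ = c0 * (c1 * w * c1⁻¹) * c0⁻¹ by group,
      mul_inv_eq_iff_eq_mul.2 hc1w.eq, hc0]
  have hmem : ∀ e ∈ E, c⁻¹ * e * c ∈ ptC w a := fun e he => by
    refine mem_ptC.2 ⟨?_, by rw [mul_smul, mul_smul, hca, L.eset_fix he, inv_smul_eq_iff, hca]⟩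
    show c⁻¹ * e * c * w = w * (c⁻¹ * e * c)
    calc c⁻¹ * e * c * w = c⁻¹ * (e * (c * w * c⁻¹)) * c := by group
      _ = c⁻¹ * (c * w * c⁻¹ * e) * c := by rw [hcy, (hy.cent e he).eq]
      _ = _ := by group
  set E' : Subgroup G := E.map (MulAut.conj c⁻¹).toMonoidHom
  have hE' : E' ≤ ptC w a := by
    rintro _ ⟨e, he, rfl⟩
    show c⁻¹ * e * c⁻¹⁻¹ ∈ ptC w a
    rw [inv_inv]
    exact hmem e he
  have h2 : IsPGroup 2 E' := IsPGroup.map (fun e : E => ⟨1, Subtype.ext (by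
    simpa [pow_two] using L.hE.sq _ e.2)⟩) _
  obtain ⟨T', hT'⟩ := (h2.comap_subtype : IsPGroup 2 (E'.subgroupOf (ptC w a))).exists_le_sylow
  obtain ⟨d, hd⟩ := MulAction.exists_smul_eq (ptC w a) T' T
  set n := c * (d : G)⁻¹ with hn
  have hdw := (mem_ptC.1 d.2).1
  have hstep : ∀ e ∈ E, n⁻¹ * e * n ∈ E := fun e he => by
    rcases (L.hE.mem e).1 he with h1 | ⟨hD, -⟩
    · rw [h1, mul_one, inv_mul_cancel]; exact one_mem E
    refine (L.hE.mem _).2 (Or.inr ⟨by simpa using h.conj n⁻¹ e hD, ?_⟩)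
    refine ⟨d * ⟨c⁻¹ * e * c, hmem e he⟩ * d⁻¹, ?_, ?_⟩
    · rw [← hd, Sylow.coe_subgroup_smul]
      refine ⟨_, hT' (show (⟨c⁻¹ * e * c, hmem e he⟩ : ptC w a) ∈ E'.subgroupOf (ptC w a) from ?_), rfl⟩
      exact ⟨e, he, by show c⁻¹ * e * c⁻¹⁻¹ = _; rw [inv_inv]; rfl⟩
    · show (d : G) * (c⁻¹ * e * c) * (d : G)⁻¹ = _
      rw [hn]; group
  have hbij : Function.Surjective fun e : E => (⟨n⁻¹ * e * n, hstep e e.2⟩ : E) :=
    (Finite.injective_iff_surjective).1 fun a b hab =>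
      Subtype.ext (mul_left_cancel (mul_right_cancel (congrArg Subtype.val hab)))
  refine ⟨n, fun x => ⟨fun hx => ?_, fun hx => ?_⟩, ?_, ?_⟩
  · have := hstep _ hx
    rwa [show n⁻¹ * (n * x * n⁻¹) * n = x by group] at this
  · obtain ⟨e, he⟩ := hbij ⟨x, hx⟩
    have h1 : n⁻¹ * (e : G) * n = x := congrArg Subtype.val he
    rw [← h1, show n * (n⁻¹ * (e : G) * n) * n⁻¹ = e by group]
    exact e.2
  · rw [hn, mul_smul, show (d : G)⁻¹ • a = a from by
      rw [inv_smul_eq_iff, (mem_ptC.1 d.2).2], hca]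
  · rw [hn, show c * (d : G)⁻¹ * w * (c * (d : G)⁻¹)⁻¹ = c * ((d : G)⁻¹ * w * (d : G)) * c⁻¹ by group,
      mul_assoc (d : G)⁻¹, hdw.symm.eq, inv_mul_cancel_left, hcy]

/-- Pulling back along `n`. -/
theorem pull {n x : G} (hna : n • a = a) (hn : ∀ x : G, n * x * n⁻¹ ∈ E ↔ x ∈ E) :
    (x • a = a → (n⁻¹ * x * n) • a = a) ∧ ((∀ e ∈ E, Commute x e) → ∀ e ∈ E, Commute (n⁻¹ * x * n) e) := by
  refine ⟨fun hx => by rw [mul_smul, mul_smul, hna, hx, inv_smul_eq_iff, hna], fun hx e he => ?_⟩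
  show n⁻¹ * x * n * e = e * (n⁻¹ * x * n)
  calc n⁻¹ * x * n * e = n⁻¹ * (x * (n * e * n⁻¹)) * n := by group
    _ = n⁻¹ * ((n * e * n⁻¹) * x) * n := by rw [(hx _ ((hn e).2 he)).eq]
    _ = _ := by group

/-- No element centralising `E` squares to a twin. -/
theorem no_root (h : Crit D Ω) {x y : G} (hy : IsTwin w a E y) (hxa : x • a = a)
    (hxE : ∀ e ∈ E, Commute x e) : x * x ≠ y := fun hxy => by
  obtain ⟨n, hn, hna, hny⟩ := L.exists_norm h hy
  set z := n⁻¹ * x * n with hz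
  have hz2 : z * z = w := by
    rw [hz, show n⁻¹ * x * n * (n⁻¹ * x * n) = n⁻¹ * (x * x) * n by group, hxy, ← hny]
    group
  have hzw : Commute z w := by rw [← hz2]; exact (Commute.refl z).mul_right (Commute.refl z)
  obtain ⟨e, he, hact⟩ := L.cent_act h hzw ((L.pull hna hn).1 hxa) ((L.pull hna hn).2 hxE)
  refine L.not_sq ((L.eset_commute he).mul_left hzw) (by rw [mul_smul, (L.pull hna hn).1 hxa, L.eset_fix he])
    (fun p hp => by rw [mul_smul, hact p hp, ← mul_smul, L.hE.sq e he, one_smul]) ?_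
  have hez : Commute z e := (L.pull hna hn).2 hxE e he
  rw [mul_assoc, ← mul_assoc z e z, hez.eq, mul_assoc e z z, hz2, ← mul_assoc, L.hE.sq e he, one_mul]

/-- Two commuting twins differ by an element of `E`. -/
theorem comm_twin (h : Crit D Ω) {y y' : G} (hy : IsTwin w a E y) (hy' : IsTwin w a E y') (hc : Commute y y') :
    y⁻¹ * y' ∈ E := by
  obtain ⟨n, hn, hna, hny⟩ := L.exists_norm h hy
  set z := n⁻¹ * y' * n with hz
  have hzw : Commute z w := by
    show n⁻¹ * y' * n * w = w * (n⁻¹ * y' * n)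
    calc n⁻¹ * y' * n * w = n⁻¹ * (y' * (n * w * n⁻¹)) * n := by group
      _ = n⁻¹ * (n * w * n⁻¹ * y') * n := by rw [hny, hc.symm.eq]
      _ = _ := by group
  have hzord : orderOf z = 2 := by
    have h1 := L.twin_order hy'
    rw [← Invol.order_conj n⁻¹ y', inv_inv] at h1
    exact h1
  rcases L.cent_two h hzw ((L.pull hna hn).1 hy'.fix) ⟨1, hzord⟩ ((L.pull hna hn).2 hy'.cent) with h1 | h1
  · exact absurd ((hn z).2 h1) (by rw [hz, show n * (n⁻¹ * y' * n) * n⁻¹ = y' by group]; exact L.twin_notMem h hy')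
  · rw [← hny, Invol.inv_self (Invol.order_conj n w ▸ L.hw)]
    have := (hn _).2 h1
    rwa [hz, show n * (w * (n⁻¹ * y' * n)) * n⁻¹ = n * w * n⁻¹ * y' by group] at this

variable (h : Crit D Ω) (hB : Below.{u} (Nat.card G)) (hgen : closure D = ⊤)
include h hB hgen

/-- An element fixed by an involutive semilinear map is `b * b'`. -/
theorem fixed_eq {t : G} (htw : Commute t w) (htE : ∀ e ∈ E, t * e * t⁻¹ ∈ E)
    (ht2 : ∀ e ∈ E, t * (t * e * t⁻¹) * t⁻¹ = e) (hne : ¬ ∀ e ∈ E, Commute t e) {d : G} (hd : d ∈ E)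
    (hdt : t * d * t⁻¹ = d) : ∃ b ∈ E, d = b * (t * b * t⁻¹) := by
  obtain ⟨Cd⟩ := L.exists_coord h hB hgen
  obtain ⟨b0, hb0, hb0ne⟩ : ∃ b0 ∈ E, b0 * (t * b0 * t⁻¹) ≠ 1 := by
    by_contra hc
    push Not at hc
    refine hne fun e he => mul_inv_eq_iff_eq_mul.1 ?_
    have h1 := eq_inv_of_mul_eq_one_right (hc e he)
    rwa [L.eset_inv he] at h1
  set e1 := b0 * (t * b0 * t⁻¹) with he1
  have he1E : e1 ∈ E := mul_mem hb0 (htE _ hb0)
  have he1t : t * e1 * t⁻¹ = e1 := by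
    calc t * e1 * t⁻¹ = (t * b0 * t⁻¹) * (t * (t * b0 * t⁻¹) * t⁻¹) := by rw [he1]; group
      _ = (t * b0 * t⁻¹) * b0 := by rw [ht2 b0 hb0]
      _ = e1 := (L.hE.comm _ (htE _ hb0) _ hb0).eq
  obtain ⟨z, hz⟩ := Cd.φ.surjective ⟨e1, he1E⟩
  obtain ⟨p, hp⟩ := Cd.φ.surjective ⟨d, hd⟩
  obtain ⟨b0', hb0'⟩ := Cd.φ.surjective ⟨b0, hb0⟩
  have hz0 : z ≠ 0 := fun e0 => hb0ne (by
    have := Cd.φ_zero
    rwa [← e0, hz] at this)
  obtain ⟨c2, hc2⟩ := Cd.semi t htw htE (p / z)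
  have hc2' : c2 = p / z := by
    have h1 := hc2 z z (by rw [hz]; exact he1t)
    rw [div_mul_cancel₀ _ hz0, hp, hdt] at h1
    exact (eq_div_iff hz0).2 (Cd.φ_inj (h1.symm.trans (by rw [hp])))
  obtain ⟨m, hm⟩ := Cd.φ.surjective ⟨t * b0 * t⁻¹, htE _ hb0⟩
  have hzm : z = b0' + m := Cd.φ.injective (Subtype.ext (by
    rw [hz, Cd.φ_add, Subgroup.coe_mul, hb0', hm]))
  refine ⟨Cd.φ (p / z * b0'), (Cd.φ _).2, ?_⟩
  have h2 := hc2 b0' m (by rw [hb0', hm])
  rw [h2, hc2', ← Subgroup.coe_mul, ← Cd.φ_add, ← mul_add, ← hzm, div_mul_cancel₀ _ hz0, hp]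

/-- An involution commuting with `w` and normalising `E` centralises it. -/
theorem no_outer {v : G} (hv : orderOf v = 2) (hvw : Commute v w) (hvE : ∀ e ∈ E, v * e * v⁻¹ ∈ E) :
    ∀ e ∈ E, Commute v e := by
  by_contra hne
  obtain ⟨x, hx, hxa⟩ := L.exists_second
  have hva := L.fix_a h hvw hvE
  obtain ⟨d, hd, hdx⟩ := L.reg h hx hxa (L.smul_fix hvw hx)
    (fun e => hxa (MulAction.injective v (e.trans hva.symm)))
  have hvv := Invol.mul_self hv
  have ht2 : ∀ e ∈ E, v * (v * e * v⁻¹) * v⁻¹ = e := fun e _ => by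
    rw [show v * (v * e * v⁻¹) * v⁻¹ = (v * v) * e * (v * v)⁻¹ by group, hvv]; group
  have hdv : v * d * v⁻¹ = d := by
    have h1 : (v * d * v⁻¹ * d) • x = x := by
      rw [mul_smul, hdx, mul_smul, mul_smul, inv_smul_smul, hdx, ← mul_smul, hvv, one_smul]
    have h2 := L.free h (mul_mem (hvE d hd) hd) hxa h1
    rw [eq_inv_of_mul_eq_one_left h2, L.eset_inv hd]
  obtain ⟨b, hb, hdb⟩ := L.fixed_eq h hB hgen hvw hvE ht2 hne hd hdv
  have hbx : b • x ≠ a := fun e => hxa (MulAction.injective b (e.trans (L.eset_fix hb).symm))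
  have hvb : v • b • x = b • x := by
    have h1 : v * b * v⁻¹ * (b * (v * b * v⁻¹)) = b := by
      rw [(L.hE.comm b hb _ (hvE b hb)).eq, ← mul_assoc, L.hE.sq _ (hvE b hb), one_mul]
    calc v • b • x = (v * b * v⁻¹) • v • x := by rw [← mul_smul, ← mul_smul, inv_mul_cancel_right]
      _ = b • x := by rw [← hdx, ← mul_smul, hdb, h1]
  have hw1 := L.hcomp v hv hvw hva ⟨b • x, hbx, L.smul_fix (L.eset_commute hb) hx, hvb⟩
  exact hne (hw1 ▸ fun e he => (L.eset_commute he).symm)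

/-- Translations of `w E`. -/
theorem exists_translation (h8 : Nat.card E ≠ 8) {e : G} (he : e ∈ E) :
    ∃ g ∈ cosetNorm E w ⊓ stabilizer G a, (∀ x ∈ E, g * x * g⁻¹ = x) ∧ g * w * g⁻¹ = w * e :=
  ((h.translations_line hB hgen L.hw L.hbad L.ha T L.hE L.hf).resolve_right fun h1 => h8 h1.1) e he

/-- `y E` consists of twins. -/
theorem twin_mul (h8 : Nat.card E ≠ 8) {y : G} (hy : IsTwin w a E y) {e : G} (he : e ∈ E) :
    IsTwin w a E (y * e) := by
  obtain ⟨n, hn, hna, hny⟩ := L.exists_norm h hy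
  have he' : n⁻¹ * e * n ∈ E := (hn _).1 (by rwa [show n * (n⁻¹ * e * n) * n⁻¹ = e by group])
  obtain ⟨g, -, -, hgw⟩ := L.exists_translation h hB hgen h8 he'
  refine ⟨⟨n * g, ?_⟩, by rw [mul_smul, L.eset_fix he, hy.fix], fun f hf => (hy.cent f hf).mul_left (L.hE.comm e he f hf)⟩
  rw [show n * g * w * (n * g)⁻¹ = n * (g * w * g⁻¹) * n⁻¹ by group, hgw, ← hny]
  group

end LineCfg

end Cfsg.Agent.GoodInvol
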